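import Cfsg.Agent.Lib.RankThreePair.Fusion

/-!
Rank three: when all essential subgroups are normal, one of them is the extraspecial side of the symplectic
shape, given the shapes of pairs of sides.
-/

set_option autoImplicit false
set_option linter.style.haveILetI false
set_option linter.unusedSectionVars false

namespace CfsgLib.RankTwoEss

open Cfsg Cfsg.FusionSystem Subgroup CfsgLib.Fusion CfsgLib.RankThreePair CfsgLib.RankThreePair.Fus

variable {Ω : Type*} [Group Ω] {S : Subgroup Ω} [Finite S] {p : ℕ} [hp : Fact p.Prime]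
  {F : FusionSystem S}

theorem exists_outSp_of_all_normal (hp2 : p ≠ 2) (hS : IsPGroup p S) (hr : Cfsg.SectionalPRankLE p 3 S)
    (hr2 : ¬ Cfsg.SectionalPRankLE p 2 S) (hF : F.IsSaturated p) (hO : F.core = ⊥)
    (hall : ∀ E, F.IsEssential p E → S ≤ Subgroup.normalizer (E : Set Ω))
    (hout : ∀ P : Pair p ↥S, ¬ P.A.Inv (oz p ↥S) → P.Out) :
    ∃ (E : Subgroup Ω) (A B : Side p ↥S), F.IsEssential p E ∧ B.E = E.subgroupOf S ∧ OutSp A B := by
  classical
  have hnt : Nontrivial S := by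
    by_contra h
    rw [not_nontrivial_iff_subsingleton] at h
    refine hr2 (sectional_two_of_sq ?_)
    rw [Nat.card_of_subsingleton (1 : S)]
    exact Nat.one_le_pow _ _ hp.out.pos
  obtain ⟨z, hz, hz1, hzp⟩ : ∃ z : S, z ∈ center S ∧ z ≠ 1 ∧ z ^ p = 1 := by
    haveI := hS.center_nontrivial
    obtain ⟨k, hk, hcard⟩ := (hS.to_subgroup (center S)).nontrivial_iff_card.1 inferInstance
    obtain ⟨z, hz⟩ := exists_prime_orderOf_dvd_card' (G := center S) p
      (hcard ▸ dvd_pow_self p hk.ne')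
    refine ⟨z, z.2, fun h => ?_, ?_⟩
    · rw [show z = 1 from Subtype.ext h, orderOf_one] at hz
      exact hp.out.ne_one hz.symm
    · rw [← SubmonoidClass.coe_pow, ← hz, pow_orderOf_eq_one, OneMemClass.coe_one]
  obtain ⟨E₀, hE₀, A, hA, hAG, hmv⟩ : ∃ E, F.IsEssential p E ∧ ∃ A : Side p ↥S,
      A.E = E.subgroupOf S ∧ (∀ g : MulAut A.E, g ∈ A.G ↔
        ∃ f, IsMap F E f ∧ ∀ x : A.E, f ((x : S) : Ω) = (((g x : A.E) : S) : Ω)) ∧
      ¬ A.Inv (oz p ↥S) := by
    by_contra hcon
    push Not at hcon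
    have hn : F.IsNormal ((oz p ↥S).map S.subtype) := by
      refine isNormal_of_alperin hS hF (Subgroup.map_subtype_le _) fun Q hQ => ?_
      rcases hQ with rfl | hQ
      · refine ⟨Subgroup.map_subtype_le _, fun α _ x hx => ?_⟩
        obtain ⟨y, hy, hyx⟩ := hx
        obtain rfl : y = x := Subtype.ext hyx
        exact ⟨α y, ⟨aut_center α hy.1, by rw [← map_pow, hy.2, map_one]⟩, rfl⟩
      · refine ⟨?_, fun α hα x hx => ?_⟩
        · rintro _ ⟨y, hy, rfl⟩
          exact center_mem_centric hQ.1 hy.1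
        obtain ⟨A, hA, hAG⟩ := exists_side hS hr hF hQ (hall Q hQ)
        obtain ⟨y, hy, hyx⟩ := hx
        have hi := hcon Q hQ A hA hAG
        let e : A.E ≃* Q := (MulEquiv.subgroupCongr hA).trans
          (Subgroup.subgroupOfEquivOfLe hQ.1.1)
        have he : ∀ u : A.E, ((e u : Q) : Ω) = ((u : S) : Ω) := fun u => rfl
        have hes : ∀ u : Q, (((e.symm u : A.E) : S) : Ω) = u := fun u => by
          rw [← he, e.apply_symm_apply]
        let g : MulAut A.E := (e.trans α).trans e.symm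
        have hg : g ∈ A.G := (hAG g).2 ⟨_, isMap_of_autGroup hQ.1.1 hα, fun u => by
          rw [← he, toFun_aut_apply α (e u).2]
          exact (hes _).symm⟩
        have hyu : ((e.symm x : A.E) : S) = y := Subtype.ext ((hes x).trans hyx.symm)
        refine ⟨_, hi.2 g hg (e.symm x) (hyu ▸ hy), ?_⟩
        show (((e.symm (α (e (e.symm x))) : A.E) : S) : Ω) = _
        rw [e.apply_symm_apply, hes]
    have h1 := IsNormal.le_core hn ⟨z, ⟨hz, hzp⟩, rfl⟩
    rw [hO, Subgroup.mem_bot] at h1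
    exact hz1 (Subtype.ext h1)
  obtain ⟨E₁, hE₁, hne⟩ : ∃ E, F.IsEssential p E ∧ E ≠ E₀ := by
    by_contra hcon
    push Not at hcon
    have hn : F.IsNormal E₀ := by
      refine isNormal_of_alperin hS hF hE₀.1.1 fun Q hQ => ?_
      rcases hQ with rfl | hQ
      · refine ⟨hE₀.1.1, fun α hα x hx => ?_⟩
        have h1 := hcon _ (essential_img_aut hS hF hE₀ (hall E₀ hE₀) hα)
        rw [← toFun_aut_apply α x.2]
        exact h1.le ((isMap_of_autGroup le_rfl hα).mono hE₀.1.1 |>.apply_mem_img hx)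
      · obtain rfl := hcon Q hQ
        exact ⟨le_rfl, fun α _ x _ => (α x).2⟩
    have h1 := IsNormal.le_core hn (center_mem_centric hE₀.1 hz)
    rw [hO, Subgroup.mem_bot] at h1
    exact hz1 (Subtype.ext h1)
  obtain ⟨B, hB, -⟩ := exists_side hS hr hF hE₁ (hall E₁ hE₁)
  have hAB : A.E ≠ B.E := by
    rw [hA, hB]
    intro h
    refine hne ?_
    have h1 := congrArg (fun K : Subgroup S => K.map S.subtype) h
    simpa [Subgroup.subgroupOf_map_subtype, inf_eq_left.2 hE₀.1.1, inf_eq_left.2 hE₁.1.1] using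
      h1.symm
  rcases hout ⟨A, B, hAB⟩ hmv with h | h | h
  · exact ⟨E₁, A, B, hE₁, hB, h⟩
  · exact ⟨E₀, B, A, hE₀, hA, h⟩
  · exact (false_of_pc hp2 hS hr hr2 hF hO hall _ h).elim

end CfsgLib.RankTwoEss
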