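import Cfsg.Agent.Lib.RankTwoEss.Setup

/-!
Sectional rank three bounds the class of a two-generated group with irreducible automorphisms by three.
-/

set_option autoImplicit false
set_option linter.unusedSectionVars false

namespace CfsgLib.RankTwoEss

open Subgroup
open scoped commutatorElement

variable {Q : Type*} [Group Q]

/-- The terms of the lower central series, `lcs 0 = ⊤`. -/
abbrev lcs (Q : Type*) [Group Q] (n : ℕ) : Subgroup Q := (⊤ : Subgroup Q).lowerCentralSeries n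

theorem lcs_one : lcs Q 1 = commutator Q := Subgroup.top_lowerCentralSeries_one

theorem comm_mem_lcs {n : ℕ} {a : Q} (ha : a ∈ lcs Q n) (u : Q) : ⁅a, u⁆ ∈ lcs Q (n + 1) :=
  Subgroup.commutator_mem_commutator ha (mem_top u)

theorem comm_mem_lcs' {n : ℕ} {a : Q} (ha : a ∈ lcs Q n) (u : Q) : ⁅u, a⁆ ∈ lcs Q (n + 1) := by
  rw [← commutatorElement_inv]; exact inv_mem (comm_mem_lcs ha u)

theorem lcs_succ_le (n : ℕ) : lcs Q (n + 1) ≤ lcs Q n :=
  Subgroup.lowerCentralSeries_antitone (⊤ : Subgroup Q) (Nat.le_succ n)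

theorem lcs_invariant (σ : MulAut Q) {n : ℕ} {a : Q} (ha : a ∈ lcs Q n) : σ a ∈ lcs Q n := by
  have h1 := mem_map_of_mem σ.toMonoidHom ha
  rwa [Subgroup.characteristic_iff_map_eq.1 inferInstance σ] at h1

/-- A subgroup between two consecutive terms is normal. -/
theorem normal_of_between {n : ℕ} {N : Subgroup Q} (h1 : lcs Q (n + 1) ≤ N) (h2 : N ≤ lcs Q n) : N.Normal :=
  ⟨fun a ha g => by
    have : g * a * g⁻¹ = ⁅g, a⁆ * a := by rw [commutatorElement_def]; group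
    rw [this]
    exact N.mul_mem (h1 (comm_mem_lcs' (h2 ha) g)) ha⟩

/-- The elements whose commutator with `a` lies in a normal subgroup. -/
def commPre (N : Subgroup Q) [N.Normal] (a : Q) : Subgroup Q :=
  (Subgroup.centralizer ({QuotientGroup.mk' N a} : Set (Q ⧸ N))).comap (QuotientGroup.mk' N)

theorem mem_commPre {N : Subgroup Q} [N.Normal] {a u : Q} : u ∈ commPre N a ↔ ⁅a, u⁆ ∈ N := by
  rw [commPre, Subgroup.mem_comap, Subgroup.mem_centralizer_singleton_iff, ← QuotientGroup.eq_one_iff,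
    ← QuotientGroup.mk'_apply, map_commutatorElement, commutatorElement_eq_one_iff_mul_comm]
  exact eq_comm

theorem mem_commPre_comm {N : Subgroup Q} [N.Normal] {a u : Q} : u ∈ commPre N a ↔ a ∈ commPre N u := by
  rw [mem_commPre, mem_commPre, ← commutatorElement_inv, inv_mem_iff]

theorem comm_mem_of_gen {N : Subgroup Q} [N.Normal] {x y a : Q} (hgen : closure ({x, y} : Set Q) = ⊤)
    (hx : ⁅a, x⁆ ∈ N) (hy : ⁅a, y⁆ ∈ N) (u : Q) : ⁅a, u⁆ ∈ N := by
  have h : closure ({x, y} : Set Q) ≤ commPre N a := by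
    rw [closure_le]
    rintro v (rfl | rfl)
    · exact mem_commPre.2 hx
    · exact mem_commPre.2 hy
  exact mem_commPre.1 (h (hgen ▸ mem_top u))

section Four

variable (h4 : lcs Q 4 = ⊥)
include h4

theorem lcs_three_comm {a : Q} (ha : a ∈ lcs Q 3) (u : Q) : Commute a u := by
  rw [← commutatorElement_eq_one_iff_commute]
  have := comm_mem_lcs ha u
  rwa [h4, mem_bot] at this

theorem lcs_one_two {a b : Q} (ha : a ∈ lcs Q 1) (hb : b ∈ lcs Q 2) : Commute a b := by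
  have h := Subgroup.commutator_commutator_eq_bot_of_rotate (H₁ := (⊤ : Subgroup Q)) (H₂ := (⊤ : Subgroup Q))
    (H₃ := lcs Q 2) (by rw [Subgroup.commutator_comm (⊤ : Subgroup Q) (lcs Q 2)]; exact h4) h4
  rw [← commutatorElement_eq_one_iff_commute, ← mem_bot, ← h]
  exact Subgroup.commutator_mem_commutator ha hb

variable {c : Q} (hc : c ∈ lcs Q 1)
include hc

theorem T_mul_right {z : Q} (hz : z ∈ lcs Q 2) (v w : Q) : ⁅z, v * w⁆ = ⁅z, v⁆ * ⁅z, w⁆ :=
  CfsgLib.RankThree.comm_mul_right (lcs_three_comm h4 (comm_mem_lcs hz w) v).symm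

theorem T_mul_left {z z' : Q} (hz' : z' ∈ lcs Q 2) (v : Q) : ⁅z * z', v⁆ = ⁅z, v⁆ * ⁅z', v⁆ := by
  rw [CfsgLib.RankThree.comm_mul_left (lcs_three_comm h4 (comm_mem_lcs hz' v) z).symm]
  exact (lcs_three_comm h4 (comm_mem_lcs hz' v) _).eq

theorem comm_c_mul (a b : Q) : ⁅c, a * b⁆ = ⁅c, a⁆ * ⁅c, b⁆ * ⁅⁅c, b⁆, a⁆⁻¹ := by
  have e : ⁅c, a * b⁆ = ⁅c, a⁆ * (⁅⁅c, b⁆, a⁆⁻¹ * ⁅c, b⁆) := by simp only [commutatorElement_def]; group
  rw [e, (lcs_three_comm h4 (inv_mem (comm_mem_lcs (comm_mem_lcs hc b) a)) _).eq, mul_assoc]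

end Four

variable [Finite Q] {p : ℕ} [hp : Fact p.Prime] {A : Subgroup (MulAut Q)} {τ : MulAut Q}

theorem Setup.frattini_eq (h : Setup p A τ) (hp5 : 5 ≤ p) : frattini Q = lcs Q 1 := by
  rw [lcs_one]
  refine le_antisymm (CfsgLib.Transfer.frattini_le_of_elementary_quotient (p := p) _ (fun a b => ?_)
    (h.pow_mem_commutator hp5)) ?_
  · rw [commutator_def]; exact Subgroup.commutator_mem_commutator (mem_top a) (mem_top b)
  · rw [commutator_def, Subgroup.commutator_le]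
    exact fun a _ b _ => CfsgLib.RankThree.commutator_mem_frattini h.pgroup a b

/-- The base `x, y = x⁻¹ τ(x)`. -/
theorem Setup.exists_base (h : Setup p A τ) :
    ∃ x y : Q, τ x = x * y ∧ y ∉ frattini Q ∧ y⁻¹ * τ y ∈ frattini Q ∧ closure ({x, y} : Set Q) = ⊤ := by
  obtain ⟨x, hx⟩ := h.moves
  set y := x⁻¹ * τ x with hy
  refine ⟨x, y, by rw [hy, mul_inv_cancel_left], hx, h.unip x, ?_⟩
  haveI : IsCoatomic (Subgroup Q) := inferInstance
  refine frattini_nongenerating ?_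
  let π := QuotientGroup.mk' (frattini Q)
  let Fx : Subgroup Q :=
    { carrier := {u | π (τ u) = π u}
      one_mem' := by simp
      mul_mem' := fun {a b} (ha : π (τ a) = π a) (hb : π (τ b) = π b) => by
        show π (τ (a * b)) = π (a * b)
        rw [map_mul τ, map_mul, map_mul, ha, hb]
      inv_mem' := fun {a} (ha : π (τ a) = π a) => by
        show π (τ a⁻¹) = π a⁻¹
        rw [map_inv τ, map_inv, map_inv, ha] }
  have hfix : ∀ u, u ∈ Fx ↔ u⁻¹ * τ u ∈ frattini Q := fun u => by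
    show π (τ u) = π u ↔ _
    rw [eq_comm, QuotientGroup.mk'_apply, QuotientGroup.mk'_apply, QuotientGroup.eq]
  set K := closure ({x, y} : Set Q) ⊔ frattini Q
  have h1 : frattini Q < Fx := by
    refine lt_of_le_of_ne (fun u hu => (hfix u).2 (mul_mem (inv_mem hu) (h.fix_frattini hu))) fun e => hx ?_
    rw [e]; exact (hfix y).2 (h.unip x)
  have h2 : Fx < ⊤ := lt_top_iff_ne_top.2 fun e => hx ((hfix x).1 (e ▸ mem_top x))
  have hyK : y ∈ K := mem_sup_left (subset_closure (Or.inr rfl))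
  have hxK : x ∈ K := mem_sup_left (subset_closure (Or.inl rfl))
  obtain ⟨i, hi, hF⟩ := (Nat.dvd_prime_pow hp.out).1 (h.index ▸ Subgroup.index_dvd_of_le h1.le)
  have hi1 : i = 1 := by
    rcases Nat.lt_or_ge i 1 with h0 | h0
    · exact absurd (Subgroup.index_eq_one.1 (by rw [hF, show i = 0 by omega, pow_zero])) h2.ne
    rcases Nat.lt_or_ge i 2 with h2' | h2'
    · omega
    exfalso
    refine h1.ne (Subgroup.eq_of_le_of_card_ge h1.le ?_)
    have e1 := Subgroup.card_mul_index (frattini Q)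
    have e2 := Subgroup.card_mul_index Fx
    rw [h.index] at e1
    rw [hF, show i = 2 by omega, ← e1] at e2
    exact (Nat.eq_of_mul_eq_mul_right (by positivity [hp.out.pos]) e2).le
  rw [hi1, pow_one] at hF
  have hKF : Fx ⊔ K = K := by
    refine sup_eq_right.2 ?_
    have hlt : frattini Q < Fx ⊓ K := lt_of_le_of_ne (le_inf h1.le le_sup_right) fun e => hx (by
      rw [e]; exact ⟨(hfix y).2 (h.unip x), hyK⟩)
    refine inf_eq_left.1 (Subgroup.eq_of_le_of_card_ge inf_le_left ?_)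
    obtain ⟨j, hj, hj'⟩ := (Nat.dvd_prime_pow hp.out).1 (h.index ▸ Subgroup.index_dvd_of_le hlt.le)
    have e1 := Subgroup.card_mul_index (frattini Q)
    have e2 := Subgroup.card_mul_index Fx
    have e3 := Subgroup.card_mul_index (Fx ⊓ K : Subgroup Q)
    rw [h.index] at e1
    rw [hF] at e2
    rw [hj'] at e3
    have hjl : j ≤ 1 := by
      by_contra hc'
      have : j = 2 := by omega
      subst this
      exact hlt.ne (Subgroup.eq_of_le_of_card_ge hlt.le
        (Nat.eq_of_mul_eq_mul_right (by positivity [hp.out.pos]) (e3.trans e1.symm)).le)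
    refine Nat.le_of_mul_le_mul_right (c := p) ?_ hp.out.pos
    rw [e2, ← e3]
    exact Nat.mul_le_mul_left _ (Nat.pow_le_pow_right hp.out.pos hjl |>.trans_eq (pow_one p))
  by_contra hK
  have hle : Fx ≤ K := sup_eq_right.1 hKF
  have hco : Fx < K := lt_of_le_of_ne hle fun e => hx ((hfix x).1 (e ▸ hxK))
  have hd := Subgroup.relIndex_mul_index hle
  rw [hF] at hd
  rcases (Nat.dvd_prime hp.out).1 (Dvd.intro_left _ hd) with hk | hk
  · exact hK (Subgroup.index_eq_one.1 hk)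
  · rw [hk, Nat.mul_eq_right hp.out.ne_zero, Subgroup.relIndex_eq_one] at hd
    exact hco.not_ge hd

theorem Setup.lcs_one_eq (h : Setup p A τ) {x y : Q} (hgen : closure ({x, y} : Set Q) = ⊤) :
    lcs Q 1 = zpowers ⁅y, x⁆ ⊔ lcs Q 2 := by
  have hc : ⁅y, x⁆ ∈ lcs Q 1 := comm_mem_lcs (n := 0) (mem_top y) x
  have hle : zpowers ⁅y, x⁆ ⊔ lcs Q 2 ≤ lcs Q 1 := sup_le (zpowers_le.2 hc) (lcs_succ_le 1)
  refine le_antisymm ?_ hle
  haveI := normal_of_between (n := 1) (le_sup_right (a := zpowers ⁅y, x⁆)) hle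
  set N := zpowers ⁅y, x⁆ ⊔ lcs Q 2
  have hy : ∀ u, ⁅y, u⁆ ∈ N := comm_mem_of_gen hgen (mem_sup_left (mem_zpowers _))
    (by rw [commutatorElement_self]; exact one_mem _)
  have hxy : ⁅x, y⁆ ∈ N := by rw [← commutatorElement_inv]; exact inv_mem (mem_sup_left (mem_zpowers _))
  have hx : ∀ u, ⁅x, u⁆ ∈ N := comm_mem_of_gen hgen (by rw [commutatorElement_self]; exact one_mem _) hxy
  rw [lcs_one, commutator_def, Subgroup.commutator_le]
  intro a _ b _
  refine comm_mem_of_gen hgen ?_ ?_ b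
  · rw [← commutatorElement_inv]; exact inv_mem (hx a)
  · rw [← commutatorElement_inv]; exact inv_mem (hy a)

theorem Setup.lcs_two_eq (h : Setup p A τ) {x y : Q} (hgen : closure ({x, y} : Set Q) = ⊤) :
    lcs Q 2 = closure ({⁅⁅y, x⁆, x⁆, ⁅⁅y, x⁆, y⁆} : Set Q) ⊔ lcs Q 3 := by
  have hc : ⁅y, x⁆ ∈ lcs Q 1 := comm_mem_lcs (n := 0) (mem_top y) x
  have hle : closure ({⁅⁅y, x⁆, x⁆, ⁅⁅y, x⁆, y⁆} : Set Q) ⊔ lcs Q 3 ≤ lcs Q 2 := by
    refine sup_le ((closure_le _).2 ?_) (lcs_succ_le 2)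
    rintro v (rfl | rfl) <;> exact comm_mem_lcs hc _
  refine le_antisymm ?_ hle
  haveI := normal_of_between (n := 2) (le_sup_right (a := Subgroup.closure _)) hle
  set N := closure ({⁅⁅y, x⁆, x⁆, ⁅⁅y, x⁆, y⁆} : Set Q) ⊔ lcs Q 3
  show ⁅lcs Q 1, (⊤ : Subgroup Q)⁆ ≤ N
  rw [Subgroup.commutator_le]
  intro a ha u _
  have : lcs Q 1 ≤ commPre N u := by
    rw [h.lcs_one_eq hgen, sup_le_iff, zpowers_le]
    exact ⟨mem_commPre_comm.1 (mem_commPre.2 (comm_mem_of_gen hgen (mem_sup_left (subset_closure (Or.inl rfl)))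
      (mem_sup_left (subset_closure (Or.inr rfl))) u)),
      fun w hw => mem_commPre.2 (mem_sup_right (comm_mem_lcs' hw u))⟩
  exact mem_commPre.1 (mem_commPre_comm.1 (this ha))

/-- `u ↦ [c, u]` modulo an invariant subgroup has invariant kernel. -/
theorem Setup.commPre_cases (h : Setup p A τ) (hp5 : 5 ≤ p) {x y : Q}
    (hgen : closure ({x, y} : Set Q) = ⊤) (N : Subgroup Q) [N.Normal] (hN : lcs Q 3 ≤ N)
    (hNinv : ∀ σ : MulAut Q, ∀ u ∈ N, σ u ∈ N) (hcc : ∀ w ∈ lcs Q 1, ⁅⁅y, x⁆, w⁆ ∈ N) :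
    commPre N ⁅y, x⁆ = frattini Q ∨ commPre N ⁅y, x⁆ = ⊤ := by
  refine h.irr _ (fun w hw => mem_commPre.2 (hcc w (h.frattini_eq hp5 ▸ hw))) fun a _ u hu => ?_
  have hl : lcs Q 1 ≤ commPre N u := by
    rw [h.lcs_one_eq hgen, sup_le_iff, zpowers_le]
    exact ⟨mem_commPre_comm.1 hu, fun w hw => mem_commPre.2 (hN (comm_mem_lcs' hw u))⟩
  have h1 := hl (lcs_invariant a⁻¹ (comm_mem_lcs (n := 0) (mem_top y) x))
  rw [← mem_commPre_comm, mem_commPre] at h1
  have h2 := hNinv a _ h1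
  rw [map_commutatorElement, MulAut.apply_inv_self] at h2
  exact mem_commPre.2 h2

theorem Setup.c_comm (h : Setup p A τ) (h4 : lcs Q 4 = ⊥) {x y : Q} (hgen : closure ({x, y} : Set Q) = ⊤)
    {w : Q} (hw : w ∈ lcs Q 1) : Commute ⁅y, x⁆ w := by
  have hle : lcs Q 1 ≤ centralizer ({⁅y, x⁆} : Set Q) := by
    rw [h.lcs_one_eq hgen, sup_le_iff, zpowers_le]
    exact ⟨mem_centralizer_singleton_iff.2 rfl, fun v hv => mem_centralizer_singleton_iff.2
      (lcs_one_two h4 (comm_mem_lcs (n := 0) (mem_top y) x) hv).symm.eq⟩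
  exact (mem_centralizer_singleton_iff.1 (hle hw) : w * ⁅y, x⁆ = ⁅y, x⁆ * w).symm

theorem Setup.tau_c (h : Setup p A τ) (hp5 : 5 ≤ p) {x y : Q} (hx : τ x = x * y)
    (hy : y⁻¹ * τ y ∈ frattini Q) : ∃ w ∈ lcs Q 2, τ ⁅y, x⁆ = w * ⁅y, x⁆ := by
  set g := y⁻¹ * τ y
  have hg : g ∈ lcs Q 1 := h.frattini_eq hp5 ▸ hy
  refine ⟨y * ⁅g, x * y⁆ * y⁻¹, (inferInstance : (lcs Q 2).Normal).conj_mem _ (comm_mem_lcs hg _) y, ?_⟩
  rw [map_commutatorElement, hx, show τ y = y * g by simp [g]]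
  simp only [commutatorElement_def]
  group

/-- Class at most three, once the fifth term is trivial. -/
theorem Setup.lcs_three_eq_bot (h : Setup p A τ) (hp5 : 5 ≤ p) (hr : Cfsg.SectionalPRankLE p 3 Q)
    (h4 : lcs Q 4 = ⊥) : lcs Q 3 = ⊥ := by
  classical
  obtain ⟨x, y, hτx, hyΦ, hτy, hgen⟩ := h.exists_base
  set c := ⁅y, x⁆ with hcdef
  have hc : c ∈ lcs Q 1 := comm_mem_lcs (n := 0) (mem_top y) x
  have hΦ := h.frattini_eq hp5
  have hz : ∀ u, ⁅c, u⁆ ∈ lcs Q 2 := comm_mem_lcs hc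
  have hpowc : ∀ u : Q, ⁅c, u ^ p⁆ = 1 := fun u =>
    commutatorElement_eq_one_iff_commute.2 (h.c_comm h4 hgen (lcs_one (Q := Q) ▸ h.pow_mem_commutator hp5 u))
  have hTpow : ∀ z ∈ lcs Q 2, ∀ v : Q, ⁅z, v⁆ ^ p = 1 := by
    intro z hz v
    rw [← CfsgLib.RankThree.comm_pow_right (lcs_three_comm h4 (comm_mem_lcs hz v) v).symm,
      commutatorElement_eq_one_iff_commute]
    exact (lcs_one_two h4 (lcs_one (Q := Q) ▸ h.pow_mem_commutator hp5 v) hz).symm
  have hcpow : ∀ (u : Q) (n : ℕ), ⁅c, u ^ n⁆ = ⁅c, u⁆ ^ n * (⁅⁅c, u⁆, u⁆ ^ n.choose 2)⁻¹ := by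
    intro u n
    induction n with
    | zero => simp
    | succ n ih =>
      rw [pow_succ, comm_c_mul h4 hc, ih, Nat.choose_succ_succ, Nat.choose_one_right]
      have e1 : ⁅⁅c, u⁆, u ^ n⁆ = ⁅⁅c, u⁆, u⁆ ^ n :=
        CfsgLib.RankThree.comm_pow_right (lcs_three_comm h4 (comm_mem_lcs (hz u) u) u).symm n
      rw [e1, pow_succ, pow_add, mul_inv_rev]
      have hcom : Commute (⁅⁅c, u⁆, u⁆ ^ n.choose 2)⁻¹ ⁅c, u⁆ :=
        ((lcs_three_comm h4 (comm_mem_lcs (hz u) u) _).pow_left _).inv_left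
      rw [mul_assoc (⁅c, u⁆ ^ n), hcom.eq]
      simp only [mul_assoc]
  have hexp : ∀ u : Q, ⁅c, u⁆ ^ p = 1 := by
    intro u
    have h1 := hcpow u p
    obtain ⟨k, hk⟩ := hp.out.dvd_choose_self (k := 2) (by omega) (by omega)
    rw [hpowc, hk, pow_mul, hTpow _ (hz u), one_pow, inv_one, mul_one] at h1
    exact h1.symm
  -- the third term and its size
  have hcc : ∀ w ∈ lcs Q 1, ⁅c, w⁆ ∈ lcs Q 3 := fun w hw => by
    rw [commutatorElement_eq_one_iff_commute.2 (h.c_comm h4 hgen hw)]; exact one_mem _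
  have hL2eq := h.lcs_two_eq hgen
  rcases h.commPre_cases hp5 hgen (lcs Q 3) le_rfl (fun σ u hu => lcs_invariant σ hu) hcc with hK | hK
  swap
  · have h32 : lcs Q 2 ≤ lcs Q 3 := by
      rw [hL2eq, sup_le_iff, closure_le]
      refine ⟨?_, le_rfl⟩
      rintro v (rfl | rfl) <;> exact mem_commPre.1 (by rw [hK]; exact mem_top _)
    rw [eq_bot_iff, ← h4]
    exact Subgroup.commutator_mono h32 le_rfl
  haveI hcent : (center Q).Normal := inferInstance
  have hT : ∀ v w u : Q, u ∈ ({x, y} : Set Q) → v = ⁅c, u⁆ → ⁅v, w⁆ ^ p = 1 := fun v w u _ hv =>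
    hv ▸ hTpow _ (hz u) w
  have hL3exp : ∀ a ∈ lcs Q 3, a ^ p = 1 := by
    intro a ha
    have ha' : a ∈ Subgroup.closure {q | ∃ s ∈ lcs Q 2, ∃ t ∈ (⊤ : Subgroup Q), ⁅s, t⁆ = q} := ha
    clear ha
    induction ha' using Subgroup.closure_induction with
    | mem q hq =>
      obtain ⟨s, hs, t, -, rfl⟩ := hq
      exact hTpow s hs t
    | one => exact one_pow p
    | mul a b hma _ iha ihb =>
      rw [(lcs_three_comm h4 (show a ∈ lcs Q 3 from hma) b).mul_pow, iha, ihb, one_mul]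
    | inv a _ iha => rw [inv_pow, iha, inv_one]
  have hL2 : (∀ a ∈ lcs Q 2, ∀ b ∈ lcs Q 2, Commute a b) ∧ ∀ a ∈ lcs Q 2, a ^ p = 1 := by
    have hcomm : ∀ a ∈ lcs Q 2, ∀ b ∈ lcs Q 2, Commute a b := fun a ha b hb =>
      lcs_one_two h4 (lcs_succ_le 1 ha) hb
    refine ⟨hcomm, fun a ha => ?_⟩
    let E2 : Subgroup Q :=
      { carrier := {a | a ∈ lcs Q 2 ∧ a ^ p = 1}
        one_mem' := ⟨one_mem _, one_pow p⟩
        mul_mem' := fun {a b} ha hb => ⟨mul_mem ha.1 hb.1, by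
          rw [(hcomm a ha.1 b hb.1).mul_pow, ha.2, hb.2, one_mul]⟩
        inv_mem' := fun {a} ha => ⟨inv_mem ha.1, by rw [inv_pow, ha.2, inv_one]⟩ }
    have hle : lcs Q 2 ≤ E2 := by
      rw [hL2eq, sup_le_iff, closure_le]
      refine ⟨?_, fun a ha => ⟨lcs_succ_le 2 ha, hL3exp a ha⟩⟩
      rintro v (rfl | rfl) <;> exact ⟨hz _, hexp _⟩
    exact (hle ha).2
  have hle2 : Nat.card (lcs Q 2) ≤ p ^ 3 := by
    have h1 := CfsgLib.RankThree.relIndex_le (K := (⊥ : Subgroup Q)) hr (H := lcs Q 2)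
      (fun a ha b hb => mem_bot.2 (commutatorElement_eq_one_iff_commute.2 (hL2.1 a ha b hb)))
      (fun a ha => mem_bot.2 (hL2.2 a ha))
    rwa [Subgroup.relIndex_bot_left] at h1
  have hge : p ^ 2 * Nat.card (lcs Q 3) ≤ Nat.card (lcs Q 2) := by
    let π := QuotientGroup.mk' (lcs Q 3)
    let f : Q →* Q ⧸ lcs Q 3 := MonoidHom.mk' (fun u => π ⁅c, u⁆) fun a b => by
      rw [comm_c_mul h4 hc, map_mul, map_mul, map_inv,
        show π ⁅⁅c, b⁆, a⁆ = 1 from (QuotientGroup.eq_one_iff _).2 (comm_mem_lcs (hz b) a), inv_one, mul_one]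
    have hker : f.ker = frattini Q := by
      rw [← hK]; ext u
      rw [MonoidHom.mem_ker, mem_commPre]
      exact QuotientGroup.eq_one_iff _
    have hsub : f.range ≤ (lcs Q 2).map π := by
      rintro _ ⟨u, rfl⟩; exact mem_map_of_mem π (hz u)
    have h2 : p ^ 2 ≤ Nat.card ((lcs Q 2).map π) := by
      rw [← h.index, ← hker, Subgroup.index_ker]
      exact Nat.le_of_dvd Nat.card_pos (Subgroup.card_dvd_of_le hsub)
    have h3 : Nat.card ((lcs Q 2).map π) = (lcs Q 3).relIndex (lcs Q 2) := by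
      rw [← Subgroup.relIndex_bot_left, ← Subgroup.map_bot π]
      have := Subgroup.relIndex_map_map (H := lcs Q 3) (K := lcs Q 2) π
      rw [QuotientGroup.ker_mk', sup_idem, sup_eq_left.2 (lcs_succ_le 2)] at this
      rw [← this, QuotientGroup.map_mk'_self, Subgroup.map_bot]
    rw [← Subgroup.relIndex_bot_left (lcs Q 2), ← Subgroup.relIndex_mul_relIndex ⊥ (lcs Q 3) (lcs Q 2)
      bot_le (lcs_succ_le 2), Subgroup.relIndex_bot_left, mul_comm]
    exact Nat.mul_le_mul_left _ (h3 ▸ h2)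
  by_contra hne
  have hcard : Nat.card (lcs Q 3) = p := by
    have h1 : Nat.card (lcs Q 3) ≤ p := by
      have := hge.trans hle2
      rw [show p ^ 3 = p ^ 2 * p by ring] at this
      exact Nat.le_of_mul_le_mul_left this (by positivity [hp.out.pos])
    obtain ⟨k, hk⟩ := IsPGroup.iff_card.1 (h.pgroup.to_subgroup (lcs Q 3))
    rcases k with _ | k
    · exact absurd (Subgroup.card_eq_one.1 (by rw [hk, pow_zero])) hne
    · refine le_antisymm h1 ?_
      rw [hk]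
      exact Nat.le_self_pow (by omega) p
  -- `τ` centralises it
  have hfix3 : ∀ z ∈ lcs Q 3, τ z = z := by
    intro z hz3
    by_cases hz1 : z = 1
    · rw [hz1, map_one]
    have hzord : orderOf z = p := orderOf_eq_prime (hL3exp z hz3) hz1
    have heq : zpowers z = lcs Q 3 :=
      Subgroup.eq_of_le_of_card_ge (zpowers_le.2 hz3) (by rw [Nat.card_zpowers, hzord, hcard])
    obtain ⟨k, hk⟩ := (mem_zpowers_iff.1 (heq ▸ lcs_invariant τ hz3 : τ z ∈ zpowers z))
    have hit : ∀ n : ℕ, (τ ^ n) z = z ^ (k ^ n) := by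
      intro n
      induction n with
      | zero => simp
      | succ n ih => rw [pow_succ', MulAut.mul_apply, ih, map_zpow, ← hk, ← zpow_mul, pow_succ']
    obtain ⟨g, hg⟩ := h.pow
    have h1 := hit p
    rw [hg, MulAut.conj_apply, (lcs_three_comm h4 hz3 g).symm.eq, mul_inv_cancel_right] at h1
    have hmod : ((k : ZMod p)) ^ p = 1 := by
      have h2 : (z : Q) ^ (1 : ℤ) = z ^ (k ^ p) := by rw [zpow_one]; exact h1
      rw [zpow_eq_zpow_iff_modEq, hzord, ← ZMod.intCast_eq_intCast_iff] at h2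
      push_cast at h2
      exact h2.symm
    rw [ZMod.pow_card] at hmod
    rw [← hk]
    conv_rhs => rw [← zpow_one z]
    rw [zpow_eq_zpow_iff_modEq, hzord, ← ZMod.intCast_eq_intCast_iff]
    push_cast
    exact hmod
  obtain ⟨w, hw, hτc⟩ := h.tau_c hp5 hτx hτy
  have hTτ : ∀ u v : Q, τ ⁅⁅c, u⁆, v⁆ = ⁅⁅c, τ u⁆, τ v⁆ := by
    intro u v
    rw [map_commutatorElement, map_commutatorElement, hτc, ← hcdef]
    have e : ⁅w * c, τ u⁆ = ⁅c, τ u⁆ * ⁅w, τ u⁆ := by
      rw [CfsgLib.RankThree.comm_mul_left ((lcs_one_two h4 (lcs_succ_le 1 (hz (τ u))) hw).symm)]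
    rw [e, T_mul_left h4 hc (lcs_succ_le 2 (comm_mem_lcs hw _)),
      commutatorElement_eq_one_iff_commute.2 (lcs_three_comm h4 (comm_mem_lcs hw _) _), mul_one]
  have hbil : ∀ a b v : Q, ⁅⁅c, a * b⁆, v⁆ = ⁅⁅c, a⁆, v⁆ * ⁅⁅c, b⁆, v⁆ := by
    intro a b v
    have hl : ⁅⁅c, b⁆, a⁆⁻¹ ∈ lcs Q 3 := inv_mem (comm_mem_lcs (hz b) a)
    rw [comm_c_mul h4 hc, T_mul_left h4 hc (lcs_succ_le 2 hl),
      commutatorElement_eq_one_iff_commute.2 (lcs_three_comm h4 hl v), mul_one, T_mul_left h4 hc (hz b)]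
  have hsym : ∀ a b : Q, ⁅⁅c, a⁆, b⁆ = ⁅⁅c, b⁆, a⁆ := by
    intro a b
    set s := ⁅b⁻¹, a⁻¹⁆
    have hs : s ∈ lcs Q 1 := comm_mem_lcs (n := 0) (mem_top _) _
    have hcs : ⁅c, s⁆ = 1 := commutatorElement_eq_one_iff_commute.2 (h.c_comm h4 hgen hs)
    have e : ⁅c, a * b * s⁆ = ⁅c, a * b⁆ := by
      rw [comm_c_mul h4 hc, hcs, commutatorElement_one_left, inv_one, mul_one, mul_one]
    rw [show a * b * s = b * a by simp only [s, commutatorElement_def]; group, comm_c_mul h4 hc,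
      comm_c_mul h4 hc, (hL2.1 _ (hz b) _ (hz a)).eq, mul_right_inj, inv_inj] at e
    exact e
  set gy := y⁻¹ * τ y
  have hgy : ∀ v : Q, ⁅⁅c, gy⁆, v⁆ = 1 := fun v => by
    rw [commutatorElement_eq_one_iff_commute.2 (h.c_comm h4 hgen (hΦ ▸ hτy : gy ∈ lcs Q 1)),
      commutatorElement_one_left]
  have hτy' : τ y = y * gy := by simp [gy]
  have eyy : ⁅⁅c, y⁆, y⁆ = 1 := by
    have e := hTτ x y
    rw [hfix3 _ (comm_mem_lcs (hz x) y), hτx, hτy', hbil, T_mul_right h4 hc (hz x), T_mul_right h4 hc (hz y),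
      hsym x gy, hgy, hsym y gy, hgy, mul_one, mul_one] at e
    exact left_eq_mul.1 e
  have exy : ⁅⁅c, x⁆, y⁆ = 1 := by
    have e := hTτ x x
    rw [hfix3 _ (comm_mem_lcs (hz x) x), hτx, hbil, T_mul_right h4 hc (hz x), T_mul_right h4 hc (hz y),
      eyy, mul_one, hsym y x, mul_assoc, left_eq_mul, ← pow_two] at e
    have h2 : ⁅⁅c, x⁆, y⁆ ^ p = 1 := hTpow _ (hz x) y
    have hco : Nat.Coprime 2 p := (Nat.coprime_primes Nat.prime_two hp.out).2 (by omega)
    rw [← orderOf_eq_one_iff]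
    exact Nat.eq_one_of_dvd_coprimes hco (orderOf_dvd_of_pow_eq_one e) (orderOf_dvd_of_pow_eq_one h2)
  rcases h.commPre_cases hp5 hgen (center Q)
      (fun a ha => mem_center_iff.2 fun g => (lcs_three_comm h4 ha g).symm.eq)
      (fun σ u hu => by
        have h1 := mem_map_of_mem σ.toMonoidHom hu
        rwa [Subgroup.characteristic_iff_map_eq.1 inferInstance σ] at h1)
      (fun w hw => by
        rw [commutatorElement_eq_one_iff_commute.2 (h.c_comm h4 hgen hw)]; exact one_mem _) with hR | hR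
  · refine hyΦ (hR ▸ mem_commPre.2 ?_)
    rw [mem_center_iff]
    intro g
    have hb : ⁅⁅c, y⁆, g⁆ ∈ (⊥ : Subgroup Q) := comm_mem_of_gen hgen
      (mem_bot.2 (by rw [← hsym]; exact exy)) (mem_bot.2 eyy) g
    exact (commutatorElement_eq_one_iff_commute.1 (mem_bot.1 hb)).symm.eq
  · refine hne (eq_bot_iff.2 ?_)
    show ⁅lcs Q 2, (⊤ : Subgroup Q)⁆ ≤ ⊥
    rw [Subgroup.commutator_le]
    intro a ha u _
    have : lcs Q 2 ≤ center Q := by
      rw [hL2eq, sup_le_iff, closure_le]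
      refine ⟨?_, fun a ha => mem_center_iff.2 fun g => (lcs_three_comm h4 ha g).symm.eq⟩
      rintro v (rfl | rfl) <;> exact mem_commPre.1 (by rw [hR]; exact mem_top _)
    exact mem_bot.2 (commutatorElement_eq_one_iff_commute.2 ((mem_center_iff.1 (this ha) u).symm))

/-- Class at most three. -/
theorem Setup.class_three (h : Setup p A τ) (hp5 : 5 ≤ p) (hr : Cfsg.SectionalPRankLE p 3 Q) :
    lcs Q 3 = ⊥ := by
  let π := QuotientGroup.mk' (lcs Q 4)
  have hπ : Function.Surjective π := QuotientGroup.mk'_surjective _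
  obtain ⟨A', τ', h'⟩ := h.quotient π hπ
    (by
      rw [QuotientGroup.ker_mk', h.frattini_eq hp5]
      exact Subgroup.lowerCentralSeries_antitone (⊤ : Subgroup Q) (by norm_num))
    (fun σ u hu => (QuotientGroup.eq_one_iff _).2 (lcs_invariant σ ((QuotientGroup.eq_one_iff u).1 hu)))
  have hmap : ∀ n, lcs (Q ⧸ lcs Q 4) n = (lcs Q n).map π := fun n => by
    rw [Subgroup.map_lowerCentralSeries, Subgroup.map_top_of_surjective π hπ]
  have h3 := h'.lcs_three_eq_bot hp5 (CfsgLib.RankThree.sectional_of hr (MonoidHom.id Q) Function.injective_id π hπ)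
    (by rw [hmap, QuotientGroup.map_mk'_self])
  rw [hmap, Subgroup.map_eq_bot_iff, QuotientGroup.ker_mk'] at h3
  haveI := h.pgroup.isNilpotent
  obtain ⟨n, hn⟩ := Subgroup.nilpotent_iff_lowerCentralSeries.1 (inferInstance : Group.IsNilpotent Q)
  have hall : ∀ k, lcs Q 3 ≤ lcs Q (3 + k) := by
    intro k
    induction k with
    | zero => exact le_rfl
    | succ k ih => exact h3.trans (Subgroup.commutator_mono ih le_rfl)
  exact eq_bot_iff.2 ((hall n).trans ((Subgroup.lowerCentralSeries_antitone (⊤ : Subgroup Q)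
    (Nat.le_add_left n 3)).trans hn.le))

end CfsgLib.RankTwoEss
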