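import Cfsg.Agent.Lib.RankTwoEss.Class

/-!
A maximal subgroup with irreducible automorphisms on a two-dimensional Frattini quotient is characteristic
or has order at most `p ^ 3`, when the sectional rank is at most three.
-/

set_option autoImplicit false
set_option linter.unusedSectionVars false

namespace CfsgLib.RankTwoEss

open Subgroup
open scoped commutatorElement

variable {N : Type*} [Group N] [Finite N] {p : ℕ} [hp : Fact p.Prime]

/-- The data carried by a maximal subgroup. -/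
theorem exists_setup (hN : IsPGroup p N) (E : Subgroup N) [hEn : E.Normal] (hidx : E.index = p)
    (hΦ : (frattini E).index = p ^ 2) (A : Subgroup (MulAut E))
    (hconj : ∀ g : N, MulAut.conjNormal g ∈ A) (hmove : ∃ (g : N) (x : E), x⁻¹ * MulAut.conjNormal g x ∉ frattini E)
    (hirr : ∀ K : Subgroup E, frattini E ≤ K → (∀ a ∈ A, ∀ x ∈ K, a x ∈ K) → K = frattini E ∨ K = ⊤) :
    ∃ t : N, t ∉ E ∧ Setup p A (MulAut.conjNormal t : MulAut E) := by
  obtain ⟨t, x0, hx0⟩ := hmove
  have hEp : IsPGroup p E := hN.to_subgroup E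
  have htE : t ∉ E := by
    intro ht
    refine hx0 ?_
    have : x0⁻¹ * MulAut.conjNormal t x0 = ⁅x0⁻¹, (⟨t, ht⟩ : E)⁆ := by
      refine Subtype.ext ?_
      simp [commutatorElement_def, mul_assoc]
    rw [this]
    exact CfsgLib.RankThree.commutator_mem_frattini hEp _ _
  refine ⟨t, htE, hEp, hΦ, hconj t, ?_, ⟨x0, hx0⟩, ?_, hirr⟩
  · have htp : t ^ p ∈ E := hidx ▸ E.pow_index_mem t
    refine ⟨⟨t ^ p, htp⟩, ?_⟩
    refine MulEquiv.ext fun x => Subtype.ext ?_
    rw [← map_pow, MulAut.conjNormal_apply, MulAut.conj_apply]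
    rfl
  · intro x
    set D := (frattini E).map E.subtype with hD
    haveI : D.Normal := ⟨by
      rintro _ ⟨d, hd, rfl⟩ g
      refine ⟨MulAut.conjNormal g d, ?_, by simp⟩
      have h1 := mem_map_of_mem (MulAut.conjNormal g : MulAut E).toMonoidHom hd
      rwa [Subgroup.characteristic_iff_map_eq.1 inferInstance] at h1⟩
    have hrel : D.relIndex E = p ^ 2 := by
      rw [Subgroup.relIndex, hD, show ((frattini E).map E.subtype).subgroupOf E = frattini E from
        Subgroup.comap_map_eq_self_of_injective E.subtype_injective _, hΦ]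
    have hlt : D < E := lt_of_le_of_ne (map_subtype_le _) fun e => by
      rw [e, Subgroup.relIndex_self] at hrel
      exact (Nat.one_lt_pow (by norm_num) hp.out.one_lt).ne hrel
    obtain ⟨B, hBn, hDB, hBE, hBr, hcB, -⟩ := CfsgLib.RankThree.exists_chief_rel hN hlt
    have hDBr : D.relIndex B = p := by
      have := Subgroup.relIndex_mul_relIndex D B E hDB hBE
      rw [hrel, hBr, pow_two] at this
      exact Nat.eq_of_mul_eq_mul_right hp.out.pos this
    have hlt2 : D < B := lt_of_le_of_ne hDB fun e => by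
      rw [e, Subgroup.relIndex_self] at hDBr
      exact hp.out.ne_one hDBr.symm
    obtain ⟨B', _, hDB', hBB', hB'r, hcB', -⟩ := CfsgLib.RankThree.exists_chief_rel hN hlt2
    have hB'D : B' ≤ D := by
      have := Subgroup.relIndex_mul_relIndex D B' B hDB' hBB'
      rw [hB'r, hDBr, Nat.mul_eq_right hp.out.ne_zero, Subgroup.relIndex_eq_one] at this
      exact this
    have mem : ∀ u : E, (u : N) ∈ D → u ∈ frattini E := fun u hu => by
      obtain ⟨d, hd, he⟩ := hu
      rwa [← Subtype.ext (show (d : N) = u from he)]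
    set y := x⁻¹ * MulAut.conjNormal t x
    have hyB : (y : N) ∈ B := by
      have e : (y : N) = ⁅t, (x : N)⁻¹⁆⁻¹ := by simp [y, commutatorElement_def, mul_assoc]
      rw [e]; exact inv_mem (hcB t _ (inv_mem x.2))
    refine mem _ (hB'D ?_)
    have e : ((y⁻¹ * MulAut.conjNormal t y : E) : N) = ⁅t, (y : N)⁻¹⁆⁻¹ := by
      simp [commutatorElement_def, mul_assoc]
    rw [e]; exact inv_mem (hcB' t _ (inv_mem hyB))

/-- Everything is central modulo a normal subgroup once it is central for generators. -/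
theorem comm_mem_of_maximal {E : Subgroup N} (hidx : E.index = p) {t : N} (ht : t ∉ E) {M : Subgroup N}
    [M.Normal] {a : N} (hE : ∀ e ∈ E, ⁅a, e⁆ ∈ M) (hat : ⁅a, t⁆ ∈ M) (n : N) : ⁅a, n⁆ ∈ M := by
  have hle : E ≤ commPre M a := fun e he => mem_commPre.2 (hE e he)
  have htop : commPre M a = ⊤ := by
    have hd := Subgroup.relIndex_mul_index hle
    rw [hidx] at hd
    rcases (Nat.dvd_prime hp.out).1 (Dvd.intro_left _ hd) with hk | hk
    · exact Subgroup.index_eq_one.1 hk
    · rw [hk, Nat.mul_eq_right hp.out.ne_zero, Subgroup.relIndex_eq_one] at hd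
      exact absurd (hd (mem_commPre.2 hat)) ht
  exact mem_commPre.1 (htop ▸ mem_top n)

/-- The main alternative. -/
theorem card_le_or_characteristic (hN : IsPGroup p N) (hp5 : 5 ≤ p) (hr : Cfsg.SectionalPRankLE p 3 N)
    (E : Subgroup N) [hEn : E.Normal] (hidx : E.index = p) (hΦ : (frattini E).index = p ^ 2)
    (A : Subgroup (MulAut E)) (hconj : ∀ g : N, MulAut.conjNormal g ∈ A)
    (hmove : ∃ (g : N) (x : E), x⁻¹ * MulAut.conjNormal g x ∉ frattini E)
    (hirr : ∀ K : Subgroup E, frattini E ≤ K → (∀ a ∈ A, ∀ x ∈ K, a x ∈ K) → K = frattini E ∨ K = ⊤) :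
    Nat.card E ≤ p ^ 3 ∨ E.Characteristic := by
  obtain ⟨t, htE, h⟩ := exists_setup hN E hidx hΦ A hconj hmove hirr
  obtain ⟨x, y, hτx, hyΦ, hτy, hgen⟩ := h.exists_base
  have h3 := h.class_three hp5
    (CfsgLib.RankThree.sectional_of hr E.subtype E.subtype_injective (MonoidHom.id E) Function.surjective_id)
  set c := ⁅y, x⁆ with hcdef
  have hc : c ∈ lcs E 1 := comm_mem_lcs (n := 0) (mem_top y) x
  have h4 : lcs E 4 = ⊥ := eq_bot_iff.2 ((lcs_succ_le 3).trans h3.le)
  have hΦ1 := h.frattini_eq hp5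
  have hL1 := h.lcs_one_eq hgen
  have hL2 := h.lcs_two_eq hgen
  rw [h3, sup_bot_eq] at hL2
  by_cases hb : lcs E 2 = ⊥
  · left
    rw [hb, sup_bot_eq] at hL1
    have hcp : c ^ p = 1 := by
      have hcc : Commute y c := by
        rw [← commutatorElement_eq_one_iff_commute, ← mem_bot, ← hb]
        exact comm_mem_lcs' hc y
      rw [← CfsgLib.RankThree.comm_pow_left hcc, ← mem_bot, ← hb]
      exact comm_mem_lcs (n := 1) (lcs_one (Q := E) ▸ h.pow_mem_commutator hp5 y) x
    rw [← Subgroup.card_mul_index (frattini E), h.index, hΦ1, hL1, Nat.card_zpowers,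
      show p ^ 3 = p * p ^ 2 by ring]
    exact Nat.mul_le_mul_right _ (Nat.le_of_dvd hp.out.pos (orderOf_dvd_of_pow_eq_one hcp))
  right
  haveI hmapn : ∀ i, ((lcs E i).map E.subtype).Normal := fun i => ⟨by
    rintro _ ⟨d, hd, rfl⟩ g
    exact ⟨MulAut.conjNormal g d, lcs_invariant _ hd, by simp⟩⟩
  set L1 := (lcs E 1).map E.subtype
  set L2 := (lcs E 2).map E.subtype
  have hin : ∀ {i : ℕ} (u : E), u ∈ lcs E i → (u : N) ∈ (lcs E i).map E.subtype := fun u hu =>
    mem_map_of_mem E.subtype hu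
  have hEgen : ∀ {M : Subgroup N} [M.Normal] {a : N}, ⁅a, (x : N)⁆ ∈ M → ⁅a, (y : N)⁆ ∈ M →
      ∀ e ∈ E, ⁅a, e⁆ ∈ M := by
    intro M _ a hax hay e he
    have hle : closure ({x, y} : Set E) ≤ (commPre M a).comap E.subtype := by
      rw [closure_le]
      rintro v (rfl | rfl)
      · exact mem_commPre.2 hax
      · exact mem_commPre.2 hay
    exact mem_commPre.1 (hle (hgen ▸ mem_top (⟨e, he⟩ : E)))
  have hτx' : t * (x : N) * t⁻¹ = x * y := by
    have := congrArg Subtype.val hτx
    rwa [MulAut.conjNormal_apply, Subgroup.coe_mul] at this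
  -- the commutators with `t`
  have hxt : ⁅(x : N)⁻¹, t⁆ = (y : N) := by
    calc ⁅(x : N)⁻¹, t⁆ = (x : N)⁻¹ * (t * x * t⁻¹) := by simp [commutatorElement_def, mul_assoc]
      _ = y := by rw [hτx']; group
  have hyt : ⁅(y : N), t⁆ ∈ L1 := by
    have hg := hin _ (hΦ1 ▸ hτy : _ ∈ lcs E 1)
    have e : ⁅(y : N), t⁆ = y * ((y⁻¹ * MulAut.conjNormal t y : E) : N)⁻¹ * (y : N)⁻¹ := by
      simp [commutatorElement_def, mul_assoc]
    rw [e]
    exact (hmapn 1).conj_mem _ (inv_mem hg) y
  obtain ⟨w, hw, hτc⟩ := h.tau_c hp5 hτx hτy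
  have hct : ⁅(c : N), t⁆ ∈ L2 := by
    have e1 : t * (c : N) * t⁻¹ = w * c := by
      have := congrArg Subtype.val hτc
      rwa [MulAut.conjNormal_apply, Subgroup.coe_mul] at this
    have e : ⁅(c : N), t⁆ = (w : N)⁻¹ := by
      calc ⁅(c : N), t⁆ = c * (t * c * t⁻¹)⁻¹ := by simp [commutatorElement_def, mul_assoc]
        _ = (w : N)⁻¹ := by rw [e1]; group
    rw [e]; exact inv_mem (hin _ hw)
  have hcy : ⁅(y : N), (x : N)⁆ = (c : N) := (map_commutatorElement E.subtype y x).symm
  -- the terms of the series of `N`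
  set M1 := L1 ⊔ zpowers (y : N) with hM1
  have hy1 : ∀ n, ⁅(y : N), n⁆ ∈ L1 := comm_mem_of_maximal hidx htE
    (hEgen (hcy ▸ hin _ hc) (by rw [commutatorElement_self]; exact one_mem _)) hyt
  have hM1c : M1 ≤ ⨅ n : N, commPre L1 n := by
    refine sup_le (fun a ha => ?_) (zpowers_le.2 ?_) <;> simp only [mem_iInf]
    · exact fun n => mem_commPre.2 (Subgroup.commutator_le_right ⊤ L1
        (Subgroup.commutator_mem_commutator (mem_top n) ha))
    · exact fun n => mem_commPre_comm.1 (mem_commPre.2 (hy1 n))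
  haveI hM1n : M1.Normal := ⟨fun a ha g => by
    have h1 : ⁅g, a⁆ ∈ L1 := mem_commPre.1 (mem_iInf.1 (hM1c ha) g)
    have e : g * a * g⁻¹ = ⁅g, a⁆ * a := by rw [commutatorElement_def]; group
    rw [e]
    exact mul_mem (mem_sup_left h1) ha⟩
  have hym : (y : N) ∈ M1 := mem_sup_right (mem_zpowers _)
  have hxM : ∀ n, ⁅(x : N)⁻¹, n⁆ ∈ M1 := comm_mem_of_maximal hidx htE
    (hEgen (by simp [commutatorElement_def, one_mem]) (by
      have e : ⁅(x : N)⁻¹, (y : N)⁆ = (x : N)⁻¹ * (c : N) * x := by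
        rw [← hcy]; simp [commutatorElement_def, mul_assoc]
      rw [e]
      simpa using hM1n.conj_mem _ (mem_sup_left (hin _ hc)) (x : N)⁻¹)) (hxt ▸ hym)
  have hN1 : lcs N 1 ≤ M1 := by
    show ⁅(⊤ : Subgroup N), (⊤ : Subgroup N)⁆ ≤ M1
    rw [Subgroup.commutator_le]
    intro a _ b _
    have hmem : ∀ v ∈ E, ∀ n, ⁅v, n⁆ ∈ M1 := by
      intro v hv n
      rw [← commutatorElement_inv, inv_mem_iff]
      refine hEgen ?_ ?_ v hv
      · rw [← commutatorElement_inv, inv_mem_iff]
        have : (x : N)⁻¹ ∈ commPre M1 n := mem_commPre_comm.1 (mem_commPre.2 (hxM n))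
        exact mem_commPre.1 (mem_commPre_comm.1 (inv_inv (x : N) ▸ inv_mem this))
      · rw [← commutatorElement_inv, inv_mem_iff]
        exact mem_sup_left (hy1 n)
    refine comm_mem_of_maximal hidx htE (fun e he => ?_) ?_ b
    · rw [← commutatorElement_inv, inv_mem_iff]; exact hmem e he a
    · rw [← commutatorElement_inv, inv_mem_iff]
      exact comm_mem_of_maximal hidx htE (fun e he => by rw [← commutatorElement_inv, inv_mem_iff]; exact hmem e he t)
        (by rw [commutatorElement_self]; exact one_mem _) a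
  have hN2 : lcs N 2 ≤ L1 := by
    show ⁅lcs N 1, (⊤ : Subgroup N)⁆ ≤ L1
    rw [Subgroup.commutator_le]
    intro a ha n _
    rw [← commutatorElement_inv, inv_mem_iff]
    exact mem_commPre.1 (mem_iInf.1 (hM1c (hN1 ha)) n)
  have hc2 : ∀ n, ⁅(c : N), n⁆ ∈ L2 := comm_mem_of_maximal hidx htE
    (hEgen (by rw [← Subgroup.coe_subtype, ← map_commutatorElement]; exact hin _ (comm_mem_lcs hc x))
      (by rw [← Subgroup.coe_subtype, ← map_commutatorElement]; exact hin _ (comm_mem_lcs hc y))) hct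
  have hN3 : lcs N 3 ≤ L2 := by
    show ⁅lcs N 2, (⊤ : Subgroup N)⁆ ≤ L2
    rw [Subgroup.commutator_le]
    intro a ha n _
    obtain ⟨a, ha', rfl⟩ := hN2 ha
    have hle : lcs E 1 ≤ (commPre L2 n).comap E.subtype := by
      rw [hL1, sup_le_iff, zpowers_le]
      exact ⟨mem_commPre_comm.1 (mem_commPre.2 (hc2 n)), fun v hv => mem_commPre.2
        (Subgroup.commutator_le_right ⊤ L2 (Subgroup.commutator_mem_commutator (mem_top n) (hin v hv)))⟩
    exact mem_commPre.1 (mem_commPre_comm.1 (hle ha'))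
  have hy1N : (y : N) ∈ lcs N 1 := hxt ▸ comm_mem_lcs (n := 0) (mem_top _) t
  have hc2N : (c : N) ∈ lcs N 2 := hcy ▸ comm_mem_lcs hy1N (x : N)
  have hN3' : L2 ≤ lcs N 3 := by
    show (lcs E 2).map E.subtype ≤ lcs N 3
    rw [hL2, Subgroup.map_le_iff_le_comap, closure_le]
    rintro v (rfl | rfl)
    · show E.subtype ⁅c, x⁆ ∈ lcs N 3
      rw [map_commutatorElement]; exact comm_mem_lcs hc2N _
    · show E.subtype ⁅c, y⁆ ∈ lcs N 3
      rw [map_commutatorElement]; exact comm_mem_lcs hc2N _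
  have hL2N : L2 = lcs N 3 := le_antisymm hN3' hN3
  -- `E` is its centraliser
  have hcy1 : ⁅c, y⁆ ≠ 1 := by
    intro e
    haveI : (⊥ : Subgroup E).Normal := inferInstance
    rcases h.commPre_cases hp5 hgen (⊥ : Subgroup E) (h3.le) (fun σ u hu => by
        rw [mem_bot] at hu ⊢; rw [hu, map_one])
        (fun v hv => mem_bot.2 (commutatorElement_eq_one_iff_commute.2 (h.c_comm h4 hgen hv))) with hk | hk
    · exact hyΦ (hk ▸ mem_commPre.2 (mem_bot.2 e))
    · refine hb ?_
      rw [hL2, Subgroup.closure_eq_bot_iff]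
      rintro v (rfl | rfl)
      · exact mem_bot.1 (mem_commPre.1 (by rw [hk]; exact mem_top _))
      · exact e
  have hcent : E = centralizer (L2 : Set N) := by
    have hle : E ≤ centralizer (L2 : Set N) := by
      intro e he
      rw [mem_centralizer_iff]
      rintro _ ⟨v, hv, rfl⟩
      refine congrArg Subtype.val (?_ : v * ⟨e, he⟩ = ⟨e, he⟩ * v)
      rw [← commutatorElement_eq_one_iff_mul_comm, ← mem_bot, ← h3]
      exact comm_mem_lcs hv _
    refine le_antisymm hle ?_
    have hne : ¬ t ∈ centralizer (L2 : Set N) := by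
      intro ht
      refine hcy1 ?_
      have hmem : ((⁅c, x⁆ : E) : N) ∈ L2 := hin _ (comm_mem_lcs hc x)
      have h1 := mem_centralizer_iff.1 ht _ hmem
      have h2 : MulAut.conjNormal t ⁅c, x⁆ = ⁅c, x⁆ := Subtype.ext (by
        rw [MulAut.conjNormal_apply, ← h1, mul_inv_cancel_right])
      have hl2c : ∀ v ∈ lcs E 2, ∀ u : E, Commute v u := fun v hv u =>
        commutatorElement_eq_one_iff_commute.1 (mem_bot.1 (h3 ▸ comm_mem_lcs hv u))
      rw [map_commutatorElement, hτx, hτc, ← hcdef,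
        CfsgLib.RankThree.comm_mul_left ((hl2c w hw _)), commutatorElement_eq_one_iff_commute.2 (hl2c w hw _),
        mul_one, comm_c_mul h4 hc,
        commutatorElement_eq_one_iff_commute.2 (hl2c _ (comm_mem_lcs hc y) x), inv_one, mul_one] at h2
      exact mul_eq_left.1 h2
    have hd := Subgroup.relIndex_mul_index hle
    rw [hidx] at hd
    rcases (Nat.dvd_prime hp.out).1 (Dvd.intro_left _ hd) with hk | hk
    · exact absurd (show t ∈ centralizer (L2 : Set N) by rw [Subgroup.index_eq_one.1 hk]; trivial) hne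
    · rw [hk, Nat.mul_eq_right hp.out.ne_zero, Subgroup.relIndex_eq_one] at hd
      exact hd
  rw [hcent, hL2N]
  infer_instance

end CfsgLib.RankTwoEss
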