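import Cfsg.Agent.Lib.RankTwoEss.Layers
import Cfsg.Agent.Lib.Invol.FrattiniKernel

/-!
In sectional rank three and `p ≥ 5` an essential subgroup which is not normal is a pearl.
-/

set_option autoImplicit false
set_option linter.unusedSectionVars false
set_option linter.style.haveILetI false

namespace CfsgLib.RankTwoEss

open Cfsg Cfsg.FusionSystem Subgroup CfsgLib.Fusion CfsgLib.RankThree.Top
open scoped commutatorElement

variable {Ω : Type*} [Group Ω] {S : Subgroup Ω} [Finite S] {F : FusionSystem S} {p : ℕ}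
  [hp : Fact p.Prime] {E : Subgroup Ω}

/-- An element of the normaliser acting as an inner automorphism lies in `E`. -/
theorem mem_of_act_inn (hE : F.IsEssential p E) (g : normalizerIn S E) (h : act S E g ∈ Inn E) :
    (g : Ω) ∈ E := by
  obtain ⟨a, ha⟩ := h
  have hES := hE.1.1
  have h1 : (a : Ω)⁻¹ * g ∈ centralizerIn S E := by
    refine ⟨S.mul_mem (S.inv_mem (hES a.2)) g.2.1, fun x hx => ?_⟩
    have h2 := congrArg Subtype.val (DFunLike.congr_fun ha ⟨x, hx⟩)
    rw [act_apply] at h2
    simp only [MulAut.conj_apply, Subgroup.coe_mul, Subgroup.coe_inv] at h2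
    show x * ((a : Ω)⁻¹ * g) = (a : Ω)⁻¹ * g * x
    have h3 : (g : Ω) * x = a * x * (a : Ω)⁻¹ * g := by rw [h2]; group
    rw [mul_assoc (a : Ω)⁻¹, h3]
    group
  have h2 := E.mul_mem a.2 (hE.1.2 E (isConj_refl hES) h1)
  rwa [mul_inv_cancel_left] at h2

theorem act_mem (hE : F.IsEssential p E) (g : normalizerIn S E) : act S E g ∈ F.autGroup E :=
  autInducedBy_le_autGroup hE.1.1 (mem_autInducedBy_iff.2 ⟨g, g.2.1, fun _ => rfl⟩)

/-- The members of a normal `p`-subgroup of the automiser are inner. -/
theorem mem_inn_of_pGroup (hS : IsPGroup p S) (hF : F.IsSaturated p) (hE : F.IsEssential p E)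
    (K : Subgroup (MulAut E)) (hK : ∀ a ∈ F.autGroup E, ∀ k ∈ K, a * k * a⁻¹ ∈ K)
    (hKp : ∀ k ∈ K, ∃ n, k ^ p ^ n = 1) {a : MulAut E} (ha : a ∈ F.autGroup E) (haK : a ∈ K) :
    a ∈ Inn E := by
  haveI : (K.comap (F.autGroup E).subtype).Normal := ⟨fun k hk g => hK g g.2 k hk⟩
  refine (CfsgLib.Invol.EssentialSmall.exists_pElement hS hF hE).1 (K.comap (F.autGroup E).subtype)
    inferInstance (fun k => ?_) ⟨a, ha⟩ haK
  obtain ⟨n, hn⟩ := hKp _ k.2
  exact ⟨n, Subtype.ext (Subtype.ext hn)⟩

/-- A nonnormal essential subgroup in sectional rank three is a pearl. -/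
theorem pearl_of_not_normal (hp5 : 5 ≤ p) (hS : IsPGroup p S)
    (hsr : Cfsg.SectionalPRankLE p 3 ↥S) (hF : F.IsSaturated p) (hE : F.IsEssential p E)
    (hn : ¬ S ≤ Subgroup.normalizer (E : Set Ω)) :
    (Cfsg.IsElementaryAbelian p E ∧ Nat.card E = p ^ 2) ∨
      (Cfsg.IsExtraspecial p ↥E ∧ Nat.card E = p ^ 3 ∧ ∀ x ∈ E, x ^ p = 1) := by
  classical
  have hES := hE.1.1
  haveI := finite_of_le hES
  have hEp : IsPGroup p E := hS.to_le hES
  haveI := finite_normalizerIn (S := S) (P := E)
  have hfro := CfsgLib.Invol.FrattiniKernel.isPGroup_frattiniKer hEp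
  -- the normaliser moves the Frattini quotient
  obtain ⟨g₀, hg₀, hg₀E⟩ := SetLike.exists_of_lt (lt_normalizerIn hS (lt_of_essential hS hF hE))
  have hmove : ∃ (g : normalizerIn S E) (x : E), x⁻¹ * act S E g x ∉ frattini E := by
    by_contra hall
    push Not at hall
    refine hg₀E (mem_of_act_inn hE ⟨g₀, hg₀⟩ (mem_inn_of_pGroup hS hF hE
      (CfsgLib.Invol.FrattiniKernel.frattiniKer E)
      (fun a _ k hk => (inferInstance : (CfsgLib.Invol.FrattiniKernel.frattiniKer E).Normal).conj_mem k hk a)
      (fun k hk => (hfro ⟨k, hk⟩).imp fun n hn => congrArg Subtype.val hn) (act_mem hE _) (hall _)))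
  -- the Frattini quotient has rank two
  obtain ⟨m, hm⟩ := IsPGroup.iff_card.1 hEp
  obtain ⟨k, -, hk⟩ := (Nat.dvd_prime_pow hp.out).1 (hm ▸ Subgroup.index_dvd_card (frattini E))
  have hsrE : Cfsg.SectionalPRankLE p 3 E := CfsgLib.RankThree.sectional_of hsr (Subgroup.inclusion hES)
    (Subgroup.inclusion_injective hES) (MonoidHom.id E) Function.surjective_id
  have hk3 : k ≤ 3 := by
    have h1 := CfsgLib.RankThree.relIndex_le (K := frattini E) hsrE (H := ⊤)
      (fun a _ b _ => CfsgLib.RankThree.commutator_mem_frattini hEp a b)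
      (fun a _ => CfsgLib.StructC.pow_mem_frattini hEp a)
    rw [Subgroup.relIndex_top_right, hk] at h1
    exact (Nat.pow_le_pow_iff_right hp.out.one_lt).1 h1
  have hk1 : 2 ≤ k := by
    by_contra hlt
    have h0 : (frattini E).index = 1 ∨ (frattini E).index = p := by
      rcases (show k = 0 ∨ k = 1 by omega) with rfl | rfl
      · exact Or.inl (by rw [hk, pow_zero])
      · exact Or.inr (by rw [hk, pow_one])
    refine hg₀E (mem_of_act_inn hE ⟨g₀, hg₀⟩ (mem_inn_of_pGroup hS hF hE
      (CfsgLib.Invol.FrattiniKernel.frattiniKer E)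
      (fun a _ k hk => (inferInstance : (CfsgLib.Invol.FrattiniKernel.frattiniKer E).Normal).conj_mem k hk a)
      (fun k hk => (hfro ⟨k, hk⟩).imp fun n hn => congrArg Subtype.val hn) (act_mem hE _) ?_))
    rcases h0 with h0 | h0
    · intro u; rw [Subgroup.index_eq_one.1 h0]; trivial
    · -- a `p`-element acts trivially on a group of order `p`
      intro u
      set N := normalizerIn S E
      have hNp : IsPGroup p N := hS.to_le inf_le_left
      set D := ((frattini E).map E.subtype).subgroupOf N
      set EN := E.subgroupOf N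
      haveI : D.Normal := phiN_normal (S := S) (E := E)
      haveI : EN.Normal := inN_normal (S := S) (E := E)
      have hDE : D < EN := by
        refine lt_of_le_of_ne (fun a ha => ?_) fun e => ?_
        · obtain ⟨v, -, hv⟩ := ha
          show (a : Ω) ∈ E
          have hv' : (v : Ω) = a := hv
          rw [← hv']; exact v.2
        · have htop : frattini E = ⊤ := eq_top_iff.2 fun v _ => by
            obtain ⟨w, hw, hwv⟩ := (show (⟨v, le_normalizerIn hES v.2⟩ : N) ∈ D by
              rw [e]; exact v.2)
            rwa [← Subtype.ext (show (w : Ω) = v from hwv)]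
          rw [htop, Subgroup.index_top] at h0
          exact hp.out.ne_one h0.symm
      obtain ⟨B, -, hDB, hBE, hBr, hcB, -⟩ := CfsgLib.RankThree.exists_chief_rel hNp hDE
      have hBD : B ≤ D := by
        have h1 : D.relIndex EN = p := by
          rw [← h0, ← Subgroup.index_comap_of_surjective (frattini E)
            (f := (Subgroup.subgroupOfEquivOfLe (le_normalizerIn hES)).toMonoidHom)
            (MulEquiv.surjective _), Subgroup.relIndex]
          congr 1
          ext a
          constructor
          · rintro ⟨w, hw, hwa⟩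
            show (Subgroup.subgroupOfEquivOfLe (le_normalizerIn hES)) a ∈ frattini E
            have e1 : (Subgroup.subgroupOfEquivOfLe (le_normalizerIn hES)) a = w :=
              Subtype.ext (show ((a : N) : Ω) = (w : Ω) from hwa.symm)
            rw [e1]; exact hw
          · intro ha
            exact ⟨_, ha, rfl⟩
        have h2 := Subgroup.relIndex_mul_relIndex D B EN hDB hBE
        rw [hBr, h1, Nat.mul_eq_right hp.out.ne_zero, Subgroup.relIndex_eq_one] at h2
        exact h2
      obtain ⟨w, hw, hwv⟩ := hBD (inv_mem (hcB ⟨g₀, hg₀⟩ ⟨(u⁻¹ : E), le_normalizerIn hES (u⁻¹ : E).2⟩ (u⁻¹ : E).2))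
      rw [show u⁻¹ * act S E ⟨g₀, hg₀⟩ u = w from ?_]
      · exact hw
      · refine Subtype.ext ?_
        rw [show (w : Ω) = _ from hwv]
        simp [commutatorElement_def, act_apply, mul_assoc]
  have hk2 : k = 2 := by
    by_contra hne
    refine hn (CfsgLib.RankThree.Main.normal_of_index hS hp5 hsr hF hE ?_)
    rw [hk, show k = 3 by omega]
  subst hk2
  -- the automiser is irreducible
  have hirr : ∀ K : Subgroup E, frattini E ≤ K → (∀ a ∈ F.autGroup E, ∀ x ∈ K, a x ∈ K) →
      K = frattini E ∨ K = ⊤ := by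
    intro K hΦK hKinv
    by_contra hne
    push Not at hne
    set π := QuotientGroup.mk' (frattini E)
    haveI hKn : K.Normal := ⟨fun a ha g => by
      have e : g * a * g⁻¹ = ⁅g, a⁆ * a := by rw [commutatorElement_def]; group
      rw [e]
      exact mul_mem (hΦK (CfsgLib.RankThree.commutator_mem_frattini hEp g a)) ha⟩
    have hKidx : K.index = p ∧ (frattini E).relIndex K = p := by
      have hd := Subgroup.relIndex_mul_index hΦK
      rw [hk] at hd
      obtain ⟨i, hi, hKi⟩ := (Nat.dvd_prime_pow hp.out).1 (Dvd.intro_left _ hd)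
      rcases (show i = 0 ∨ i = 1 ∨ i = 2 by omega) with rfl | rfl | rfl
      · exact absurd (Subgroup.index_eq_one.1 (by rw [hKi, pow_zero])) hne.2
      · rw [hKi, pow_one, pow_two] at hd
        exact ⟨by rw [hKi, pow_one], Nat.eq_of_mul_eq_mul_right hp.out.pos hd⟩
      · rw [hKi, Nat.mul_eq_right (pow_ne_zero _ hp.out.ne_zero), Subgroup.relIndex_eq_one] at hd
        exact absurd (le_antisymm hd hΦK) hne.1
    let St : Subgroup (MulAut E) :=
      { carrier := {a | ∀ u : E, u⁻¹ * a u ∈ K ∧ (u ∈ K → u⁻¹ * a u ∈ frattini E)}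
        one_mem' := fun u => by simp
        mul_mem' := fun {a b} ha hb u => by
          have e : u⁻¹ * (a * b) u = (u⁻¹ * b u) * ((b u)⁻¹ * a (b u)) := by rw [MulAut.mul_apply]; group
          refine ⟨?_, fun hu => ?_⟩ <;> rw [e]
          · exact mul_mem (hb u).1 (ha (b u)).1
          · have hbu : b u ∈ K := by
              have := mul_mem hu ((hb u).1)
              rwa [mul_inv_cancel_left] at this
            exact mul_mem ((hb u).2 hu) ((ha (b u)).2 hbu)
        inv_mem' := fun {a} ha u => by
          have e : u⁻¹ * a⁻¹ u = ((a⁻¹ u)⁻¹ * a (a⁻¹ u))⁻¹ := by rw [MulAut.apply_inv_self]; group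
          refine ⟨?_, fun hu => ?_⟩ <;> rw [e]
          · exact inv_mem (ha _).1
          · refine inv_mem ((ha _).2 ?_)
            have h1 := inv_mem (ha (a⁻¹ u)).1
            rw [MulAut.apply_inv_self, mul_inv_rev, inv_inv] at h1
            have := mul_mem hu h1
            rwa [mul_inv_cancel_left] at this }
    have hStp : ∀ k ∈ St, ∃ n, k ^ p ^ n = 1 := by
      intro a ha
      have hapow : a ^ p ∈ CfsgLib.Invol.FrattiniKernel.frattiniKer E := by
        intro u
        have hit : ∀ n : ℕ, π ((a ^ n) u) = π u * π (u⁻¹ * a u) ^ n := by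
          intro n
          induction n with
          | zero => simp
          | succ n ih =>
            have hfix : π (a (u⁻¹ * a u)) = π (u⁻¹ * a u) := by
              rw [QuotientGroup.mk'_apply, QuotientGroup.mk'_apply, eq_comm, QuotientGroup.eq]
              exact (ha _).2 (ha u).1
            have hinv : ∀ w : E, π w = 1 → π (a w) = 1 := fun w hw => by
              rw [QuotientGroup.mk'_apply, QuotientGroup.eq_one_iff] at hw ⊢
              have h1 := mem_map_of_mem a.toMonoidHom hw
              rwa [Subgroup.characteristic_iff_map_eq.1 inferInstance a] at h1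
            have hwd : π (a ((a ^ n) u)) = π (a (u * (u⁻¹ * a u) ^ n)) := by
              have h1 := hinv (((a ^ n) u)⁻¹ * (u * (u⁻¹ * a u) ^ n))
                (by rw [map_mul, map_inv, inv_mul_eq_one, ih]; simp)
              rw [map_mul a, map_inv a, map_mul, map_inv, inv_mul_eq_one] at h1
              exact h1
            rw [pow_succ', MulAut.mul_apply, hwd, map_mul a, map_pow a, map_mul, map_pow, hfix,
              show π (a u) = π u * π (u⁻¹ * a u) by rw [← map_mul, mul_inv_cancel_left], mul_assoc,
              ← pow_succ']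
        have h1 := hit p
        rw [← map_pow, show π ((u⁻¹ * a u) ^ p) = 1 from
          (QuotientGroup.eq_one_iff _).2 (CfsgLib.StructC.pow_mem_frattini hEp _), mul_one,
          QuotientGroup.mk'_apply, QuotientGroup.mk'_apply, eq_comm, QuotientGroup.eq] at h1
        exact h1
      obtain ⟨n, hn⟩ := hfro ⟨_, hapow⟩
      exact ⟨n + 1, by rw [pow_succ', pow_mul]; exact congrArg Subtype.val hn⟩
    have hStn : ∀ a ∈ F.autGroup E, ∀ k ∈ St, a * k * a⁻¹ ∈ St := by
      intro a ha k hk u
      have e : u⁻¹ * (a * k * a⁻¹) u = a ((a⁻¹ u)⁻¹ * k (a⁻¹ u)) := by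
        simp [MulAut.mul_apply, MulAut.apply_inv_self]
      rw [e]
      refine ⟨hKinv a ha _ (hk _).1, fun hu => ?_⟩
      have h1 := mem_map_of_mem a.toMonoidHom ((hk _).2 (hKinv a⁻¹ (inv_mem ha) u hu))
      rwa [Subgroup.characteristic_iff_map_eq.1 inferInstance a] at h1
    -- every element of the normaliser stabilises the series
    set N := normalizerIn S E with hN
    have hNp : IsPGroup p N := hS.to_le inf_le_left
    let ι : E →* N := Subgroup.inclusion (le_normalizerIn hES)
    have hιinj : Function.Injective ι := Subgroup.inclusion_injective _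
    have hnorm : ∀ L : Subgroup E, (∀ a ∈ F.autGroup E, ∀ x ∈ L, a x ∈ L) → (L.map ι).Normal := fun L hL => ⟨by
      rintro _ ⟨v, hv, rfl⟩ g
      exact ⟨act S E g v, hL _ (act_mem hE g) v hv, Subtype.ext rfl⟩⟩
    haveI := hnorm (frattini E) (fun a _ v hv => by
      have h1 := mem_map_of_mem a.toMonoidHom hv
      rwa [Subgroup.characteristic_iff_map_eq.1 inferInstance a] at h1)
    haveI := hnorm K hKinv
    haveI := hnorm ⊤ (fun a _ v _ => mem_top _)
    have step : ∀ {L M : Subgroup E} [(L.map ι).Normal] [(M.map ι).Normal], L ≤ M → L.relIndex M = p →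
        ∀ (g : N) (u : E), u ∈ M → u⁻¹ * act S E g u ∈ L := by
      intro L M _ _ hLM hr g u hu
      have hrel : (L.map ι).relIndex (M.map ι) = p := by
        rw [Subgroup.relIndex_map_map_of_injective _ _ hιinj, hr]
      have hlt : L.map ι < M.map ι := lt_of_le_of_ne (Subgroup.map_mono hLM) fun e => by
        rw [e, Subgroup.relIndex_self] at hrel
        exact hp.out.ne_one hrel.symm
      obtain ⟨B, -, hLB, hBM, hBr, hcB, -⟩ := CfsgLib.RankThree.exists_chief_rel hNp hlt
      have hBL : B ≤ L.map ι := by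
        have h2 := Subgroup.relIndex_mul_relIndex (L.map ι) B (M.map ι) hLB hBM
        rw [hBr, hrel, Nat.mul_eq_right hp.out.ne_zero, Subgroup.relIndex_eq_one] at h2
        exact h2
      obtain ⟨w, hw, hwv⟩ := hBL (inv_mem (hcB g (ι u⁻¹) (mem_map_of_mem ι (inv_mem hu))))
      rw [show u⁻¹ * act S E g u = w from ?_]
      · exact hw
      · refine hιinj (hwv ▸ ?_)
        exact Subtype.ext (by simp [ι, commutatorElement_def, act_apply, mul_assoc])
    have hmemSt : ∀ g : N, act S E g ∈ St := fun g u =>
      ⟨step (L := K) (M := ⊤) le_top (by rw [Subgroup.relIndex_top_right, hKidx.1]) g u (mem_top u),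
        fun hu => step (L := frattini E) (M := K) hΦK hKidx.2 g u hu⟩
    exact hg₀E (mem_of_act_inn hE ⟨g₀, hg₀⟩
      (mem_inn_of_pGroup hS hF hE St hStn hStp (act_mem hE _) (hmemSt _)))
  -- the normaliser
  set N := normalizerIn S E with hN
  have hNS : N ≤ S := inf_le_left
  have hNp : IsPGroup p N := hS.to_le hNS
  set EN := E.subgroupOf N with hEN
  haveI hENn : EN.Normal := inN_normal (S := S) (E := E)
  let e : EN ≃* E := Subgroup.subgroupOfEquivOfLe (le_normalizerIn hES)
  obtain ⟨g₁, x₁, hx₁⟩ := hmove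
  let A : Subgroup (MulAut EN) := (F.autGroup E).map (MulAut.congr e.symm).toMonoidHom
  have hfrat : (frattini EN).map e.toMonoidHom = frattini E := CfsgLib.RankThree.Main.map_frattini e
  have hmemf : ∀ u : EN, e u ∈ frattini E ↔ u ∈ frattini EN := fun u => by
    rw [← hfrat]; exact Subgroup.mem_map_iff_mem e.injective
  have hcongr : ∀ (a : MulAut E) (u : EN), (MulAut.congr e.symm a) u = e.symm (a (e u)) := fun a u => rfl
  have hact : ∀ (g : N) (u : EN), e (MulAut.conjNormal g u) = act S E g (e u) := fun g u =>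
    Subtype.ext rfl
  have hidxN : EN.index = p := by
    -- the quotient acts faithfully on the line of fixed points
    obtain ⟨i, hi⟩ := IsPGroup.iff_card.1 hNp
    obtain ⟨j, -, hj⟩ := (Nat.dvd_prime_pow hp.out).1 (hi ▸ Subgroup.index_dvd_card EN)
    have hfi : (frattini EN).index = p ^ 2 := by
      rw [← hk, ← hfrat]; exact (Subgroup.index_map_of_bijective e.bijective _).symm
    -- the kernel of the action on the quotient is `E`
    let π := QuotientGroup.mk' (frattini E)
    obtain ⟨bar, hbar⟩ := CfsgLib.RankThree.Main.exists_bar π (QuotientGroup.mk'_surjective _)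
      (fun σ v hv => by
        rw [QuotientGroup.mk'_apply, QuotientGroup.eq_one_iff] at hv ⊢
        have h1 := mem_map_of_mem σ.toMonoidHom hv
        rwa [Subgroup.characteristic_iff_map_eq.1 inferInstance σ] at h1)
    let φ : N →* MulAut (E ⧸ frattini E) := bar.comp (act S E)
    have hker : φ.ker = EN := by
      ext g
      constructor
      · intro hg
        refine mem_of_act_inn hE g (mem_inn_of_pGroup hS hF hE
          (CfsgLib.Invol.FrattiniKernel.frattiniKer E)
          (fun a _ k hk => (inferInstance : (CfsgLib.Invol.FrattiniKernel.frattiniKer E).Normal).conj_mem k hk a)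
          (fun k hk => (hfro ⟨k, hk⟩).imp fun n hn => congrArg Subtype.val hn) (act_mem hE _) fun u => ?_)
        have h1 := DFunLike.congr_fun (MonoidHom.mem_ker.1 hg) (π u)
        rw [MonoidHom.comp_apply, hbar, MulAut.one_apply, QuotientGroup.mk'_apply, QuotientGroup.mk'_apply,
          eq_comm, QuotientGroup.eq] at h1
        exact h1
      · intro hg
        refine MonoidHom.mem_ker.2 (MulEquiv.ext fun r => ?_)
        obtain ⟨u, rfl⟩ := QuotientGroup.mk'_surjective (frattini E) r
        rw [MonoidHom.comp_apply, hbar, MulAut.one_apply, QuotientGroup.mk'_apply, QuotientGroup.mk'_apply,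
          eq_comm, QuotientGroup.eq]
        have e1 : u⁻¹ * act S E g u = ⁅u⁻¹, (⟨g, hg⟩ : E)⁆ := Subtype.ext (by
          simp [commutatorElement_def, act_apply, mul_assoc])
        rw [e1]
        exact CfsgLib.RankThree.commutator_mem_frattini hEp _ _
    have hVp : ∀ r : E ⧸ frattini E, r ^ p = 1 := fun r => by
      obtain ⟨u, rfl⟩ := QuotientGroup.mk'_surjective (frattini E) r
      rw [← map_pow]
      exact (QuotientGroup.eq_one_iff _).2 (CfsgLib.StructC.pow_mem_frattini hEp _)
    have hVab : ∀ a b : E ⧸ frattini E, a * b = b * a := fun a b => by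
      obtain ⟨a, rfl⟩ := QuotientGroup.mk'_surjective (frattini E) a
      obtain ⟨b, rfl⟩ := QuotientGroup.mk'_surjective (frattini E) b
      rw [← map_mul, ← map_mul, QuotientGroup.mk'_apply, QuotientGroup.mk'_apply, QuotientGroup.eq]
      have : (a * b)⁻¹ * (b * a) = ⁅b⁻¹, a⁻¹⁆ := by rw [commutatorElement_def]; group
      rw [this]
      exact CfsgLib.RankThree.commutator_mem_frattini hEp _ _
    obtain ⟨eq⟩ := CfsgLib.Invol.EssentialSmall.exists_mulAut_equiv_gl hVab hVp
      (show Nat.card (E ⧸ frattini E) = p ^ 2 by rw [← hk, Subgroup.index_eq_card])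
    haveI : Finite (MulAut (E ⧸ frattini E)) := Finite.of_equiv _ eq.symm.toEquiv
    have hdvd : EN.index ∣ Nat.card (GL (Fin 2) (ZMod p)) := by
      rw [← hker, Subgroup.index_ker, ← Nat.card_congr eq.toEquiv]
      exact Subgroup.card_subgroup_dvd_card _
    have hnd : ¬ p ^ 2 ∣ Nat.card (GL (Fin 2) (ZMod p)) := by
      rw [Matrix.card_GL_field]
      simp only [Fin.prod_univ_two, Fin.val_zero, Fin.val_one, pow_zero, pow_one, ZMod.card]
      intro h
      have e1 : p ^ 2 - p = p * (p - 1) := by rw [Nat.mul_sub_one, pow_two]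
      rw [e1, show (p ^ 2 - 1) * (p * (p - 1)) = p * ((p ^ 2 - 1) * (p - 1)) by ring, pow_two,
        Nat.mul_dvd_mul_iff_left hp.out.pos] at h
      rcases hp.out.dvd_mul.1 h with h | h
      · have h1 : p ∣ p * p - (p * p - 1) := Nat.dvd_sub (Dvd.intro p rfl) h
        rw [Nat.sub_sub_self (Nat.one_le_iff_ne_zero.2 (by positivity [hp.out.pos]))] at h1
        exact hp.out.not_dvd_one h1
      · have := Nat.le_of_dvd (by have := hp.out.two_le; omega) h
        omega
    rcases (show j = 0 ∨ j = 1 ∨ 2 ≤ j by omega) with rfl | rfl | h2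
    · exfalso
      rw [pow_zero, Subgroup.index_eq_one] at hj
      exact hg₀E (show (⟨g₀, hg₀⟩ : N) ∈ EN by rw [hj]; trivial)
    · rw [hj, pow_one]
    · exact absurd ((hj ▸ pow_dvd_pow p h2 : p ^ 2 ∣ EN.index).trans hdvd) hnd
  rcases card_le_or_characteristic hNp hp5
      (CfsgLib.RankThree.sectional_of hsr (Subgroup.inclusion hNS) (Subgroup.inclusion_injective hNS)
        (MonoidHom.id N) Function.surjective_id)
      EN hidxN (by rw [← hk, ← hfrat]; exact (Subgroup.index_map_of_bijective e.bijective _).symm) A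
      (fun g => ⟨act S E g, act_mem hE g, MulEquiv.ext fun u => e.injective (by
        rw [MulEquiv.coe_toMonoidHom, hcongr, e.apply_symm_apply, hact])⟩)
      ⟨g₁, e.symm x₁, fun h1 => hx₁ (by
        have h2 := (hmemf _).2 h1
        rwa [map_mul, map_inv, hact, e.apply_symm_apply] at h2)⟩
      (fun K hK hA => by
        rcases hirr (K.map e.toMonoidHom) (hfrat ▸ Subgroup.map_mono hK) (fun a ha v hv => by
            obtain ⟨u, hu, rfl⟩ := hv
            refine ⟨MulAut.congr e.symm a u, hA _ (mem_map_of_mem _ ha) u hu, ?_⟩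
            rw [MulEquiv.coe_toMonoidHom, hcongr, e.apply_symm_apply]) with h1 | h1
        · exact Or.inl (Subgroup.map_injective e.injective (h1.trans hfrat.symm))
        · exact Or.inr (Subgroup.map_injective e.injective (h1.trans
            (Subgroup.map_top_of_surjective _ e.surjective).symm))) with hcard | hchar
  · rw [Nat.card_congr e.toEquiv] at hcard
    have hm3 : m ≤ 3 := by rw [hm] at hcard; exact (Nat.pow_le_pow_iff_right hp.out.one_lt).1 hcard
    have hm2 : 2 ≤ m := by
      refine (Nat.pow_le_pow_iff_right hp.out.one_lt).1 ?_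
      rw [← hk, ← hm]
      exact Nat.le_of_dvd Nat.card_pos (Subgroup.index_dvd_card _)
    rcases (show m = 2 ∨ m = 3 by omega) with rfl | rfl
    · exact Or.inl ⟨CfsgLib.Invol.EssentialSmall.card_sq hS hF hE hm, hm⟩
    · rcases CfsgLib.Invol.EssentialSmall.card_cube hS hF hE hm with hel | ⟨-, hex, hexp⟩ | ⟨h2, -⟩
      · exfalso
        have hbot : frattini E ≤ ⊥ := CfsgLib.Transfer.frattini_le_of_elementary_quotient (p := p) ⊥
          (fun a b => mem_bot.2 (commutatorElement_eq_one_iff_mul_comm.2 (hel.1.is_comm.comm a b)))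
          (fun a => mem_bot.2 (Subtype.ext (by simpa using hel.2 a a.2)))
        rw [le_bot_iff.1 hbot, Subgroup.index_bot, hm] at hk
        exact absurd ((Nat.pow_right_injective hp.out.two_le) hk) (by norm_num)
      · exact Or.inr ⟨hex, hm, hexp⟩
      · omega
  · exfalso
    have hlt : N < S := lt_of_le_of_ne hNS fun e' => hn (e' ▸ inf_le_right)
    obtain ⟨y, hy, hyN⟩ := SetLike.exists_of_lt (lt_normalizerIn hS hlt)
    refine hyN ⟨hy.1, ?_⟩
    haveI : Finite (E : Set Ω) := inferInstanceAs (Finite E)
    refine Subgroup.mem_normalizer_fintype fun v hv => ?_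
    have h1 := mem_map_of_mem (act S N ⟨y, hy⟩).toMonoidHom
      (show (⟨v, le_normalizerIn hES hv⟩ : N) ∈ EN from hv)
    rw [Subgroup.characteristic_iff_map_eq.1 hchar] at h1
    exact h1

end CfsgLib.RankTwoEss
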