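import Cfsg.Agent.Lib.RankThree.Main
import Cfsg.Agent.Lib.Invol.EssentialSmall
import Cfsg.Agent.Lib.StructC.BurnsideBasis
import Mathlib.GroupTheory.Nilpotent

/-!
A two-generated `p`-group with an irreducible group of automorphisms containing an automorphism of order `p`
modulo inner ones which moves the Frattini quotient: `p ≥ 5` makes the commutator quotient elementary.
-/

set_option autoImplicit false
set_option linter.unusedSectionVars false

namespace CfsgLib.RankTwoEss

open Subgroup
open scoped commutatorElement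

variable {Q : Type*} [Group Q] [Finite Q] {p : ℕ} [hp : Fact p.Prime]

/-- The data. -/
structure Setup (p : ℕ) (A : Subgroup (MulAut Q)) (τ : MulAut Q) : Prop where
  pgroup : IsPGroup p Q
  index : (frattini Q).index = p ^ 2
  mem : τ ∈ A
  pow : ∃ g : Q, τ ^ p = MulAut.conj g
  moves : ∃ x : Q, x⁻¹ * τ x ∉ frattini Q
  unip : ∀ x : Q, (x⁻¹ * τ x)⁻¹ * τ (x⁻¹ * τ x) ∈ frattini Q
  irr : ∀ K : Subgroup Q, frattini Q ≤ K → (∀ a ∈ A, ∀ x ∈ K, a x ∈ K) → K = frattini Q ∨ K = ⊤

theorem frattini_map {R : Type*} [Group R] [Finite R] (hQ : IsPGroup p Q) {q : Q →* R}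
    (hq : Function.Surjective q) : (frattini Q).map q = frattini R := by
  refine le_antisymm ?_ ?_
  · rw [Subgroup.map_le_iff_le_comap]
    exact frattini_le_comap_frattini_of_surjective hq
  · haveI : ((frattini Q).map q).Normal := Subgroup.Normal.map inferInstance q hq
    refine CfsgLib.Transfer.frattini_le_of_elementary_quotient (p := p) _ (fun a b => ?_) (fun a => ?_)
    · obtain ⟨a, rfl⟩ := hq a
      obtain ⟨b, rfl⟩ := hq b
      exact ⟨_, CfsgLib.RankThree.commutator_mem_frattini hQ a b, map_commutatorElement q a b⟩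
    · obtain ⟨a, rfl⟩ := hq a
      exact ⟨_, CfsgLib.StructC.pow_mem_frattini hQ a, map_pow q a p⟩

variable {A : Subgroup (MulAut Q)} {τ : MulAut Q}

theorem Setup.quotient (h : Setup p A τ) {R : Type*} [Group R] [Finite R] (q : Q →* R)
    (hq : Function.Surjective q) (hk : q.ker ≤ frattini Q)
    (hinv : ∀ σ : MulAut Q, ∀ x, q x = 1 → q (σ x) = 1) :
    ∃ (A' : Subgroup (MulAut R)) (τ' : MulAut R), Setup p A' τ' := by
  obtain ⟨bar, hbar⟩ := CfsgLib.RankThree.Main.exists_bar q hq hinv
  have hmap := frattini_map h.pgroup hq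
  have hcm : (frattini R).comap q = frattini Q := by
    rw [← hmap, Subgroup.comap_map_eq, sup_eq_left.2 hk]
  have hmem : ∀ x, q x ∈ frattini R ↔ x ∈ frattini Q := fun x => by rw [← hcm]; rfl
  refine ⟨A.map bar, bar τ, h.pgroup.of_surjective q hq, ?_, mem_map_of_mem bar h.mem, ?_, ?_, ?_, ?_⟩
  · rw [← Subgroup.index_comap_of_surjective _ hq, hcm, h.index]
  · obtain ⟨g, hg⟩ := h.pow
    refine ⟨q g, MulEquiv.ext fun r => ?_⟩
    obtain ⟨x, rfl⟩ := hq r
    rw [← map_pow, hbar, hg]
    simp
  · obtain ⟨x, hx⟩ := h.moves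
    exact ⟨q x, by rwa [hbar, ← map_inv, ← map_mul, hmem]⟩
  · intro r
    obtain ⟨x, rfl⟩ := hq r
    rw [hbar, ← map_inv, ← map_mul, hbar, ← map_inv, ← map_mul, hmem]
    exact h.unip x
  · intro K hK hA
    rcases h.irr (K.comap q) (hcm ▸ Subgroup.comap_mono hK) (fun a ha x hx => by
        show q (a x) ∈ K
        rw [← hbar]
        exact hA _ (mem_map_of_mem bar ha) _ hx) with e | e
    · left
      rw [← Subgroup.map_comap_eq_self_of_surjective hq K, e, hmap]
    · right
      rw [← Subgroup.map_comap_eq_self_of_surjective hq K, e, Subgroup.map_top_of_surjective q hq]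

theorem Setup.fix_frattini (h : Setup p A τ) {x : Q} (hx : x ∈ frattini Q) : τ x ∈ frattini Q := by
  have h1 := mem_map_of_mem τ.toMonoidHom hx
  rwa [Subgroup.characteristic_iff_map_eq.1 inferInstance τ] at h1

/-- The abelian case: the exponent is `p`. -/
theorem Setup.pow_eq_one_of_comm (h : Setup p A τ) (hp5 : 5 ≤ p) (hab : ∀ a b : Q, a * b = b * a) (x : Q) :
    x ^ p = 1 := by
  classical
  set P := CfsgLib.Invol.EssentialSmall.powRange hab p with hP
  haveI : P.Normal := ⟨fun x hx g => by rwa [hab g x, mul_inv_cancel_right]⟩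
  have hPeq : frattini Q = P := le_antisymm
    (CfsgLib.Transfer.frattini_le_of_elementary_quotient (p := p) P
      (fun a b => by rw [commutatorElement_eq_one_iff_mul_comm.2 (hab a b)]; exact one_mem _)
      (fun a => ⟨a, rfl⟩))
    (by rintro _ ⟨a, rfl⟩; exact CfsgLib.StructC.pow_mem_frattini h.pgroup a)
  by_contra hx
  let D := CfsgLib.Invol.EssentialSmall.powRange hab (p * p)
  haveI : D.Normal := ⟨fun x hx g => by rwa [hab g x, mul_inv_cancel_right]⟩
  have hDP : D ≤ P := by
    rintro _ ⟨a, rfl⟩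
    exact ⟨a ^ p, by rw [← pow_mul]⟩
  let π := QuotientGroup.mk' D
  have hπs : Function.Surjective π := QuotientGroup.mk'_surjective D
  have hπinv : ∀ σ : MulAut Q, ∀ y, π y = 1 → π (σ y) = 1 := by
    intro σ y hy
    obtain ⟨a, rfl⟩ := (QuotientGroup.eq_one_iff y).1 hy
    exact (QuotientGroup.eq_one_iff _).2 ⟨σ a, (map_pow σ a _).symm⟩
  obtain ⟨bar, hbar⟩ := CfsgLib.RankThree.Main.exists_bar π hπs hπinv
  have habR : ∀ a b : Q ⧸ D, a * b = b * a := fun a b => by
    obtain ⟨a, rfl⟩ := hπs a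
    obtain ⟨b, rfl⟩ := hπs b
    rw [← map_mul, ← map_mul, hab]
  -- the kernel of `v ↦ v ^ p`
  let K : Subgroup Q :=
    { carrier := {y | π (y ^ p) = 1}
      one_mem' := by simp
      mul_mem' := fun {a b} ha hb => by
        show π ((a * b) ^ p) = 1
        rw [(show Commute a b from hab a b).mul_pow, map_mul, ha, hb, one_mul]
      inv_mem' := fun {a} ha => by show π (a⁻¹ ^ p) = 1; rw [inv_pow, map_inv, ha, inv_one] }
  have hKle : frattini Q ≤ K := by
    rw [hPeq]
    rintro _ ⟨a, rfl⟩
    show π ((a ^ p) ^ p) = 1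
    rw [← pow_mul]
    exact (QuotientGroup.eq_one_iff _).2 ⟨a, rfl⟩
  rcases h.irr K hKle (fun a _ y hy => by
      show π ((a y) ^ p) = 1
      rw [← map_pow]; exact hπinv a _ hy) with hK | hK
  · -- no automorphism of order `p`
    have hker : CfsgLib.Invol.powKer habR p = (P.map π : Subgroup (Q ⧸ D)) := by
      ext r
      obtain ⟨y, rfl⟩ := hπs r
      constructor
      · intro hr
        refine mem_map_of_mem π ?_
        rw [← hPeq, ← hK]
        show π (y ^ p) = 1
        rw [map_pow]; exact hr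
      · rintro ⟨z, ⟨a, rfl⟩, hz⟩
        show π y ^ p = 1
        rw [← hz, ← map_pow, ← pow_mul]
        exact (QuotientGroup.eq_one_iff _).2 ⟨a, rfl⟩
    have hrange : CfsgLib.Invol.EssentialSmall.powRange habR p = P.map π := by
      ext r
      constructor
      · rintro ⟨s, rfl⟩
        obtain ⟨a, rfl⟩ := hπs s
        exact ⟨a ^ p, ⟨a, rfl⟩, map_pow π a p⟩
      · rintro ⟨_, ⟨a, rfl⟩, rfl⟩
        exact ⟨π a, (map_pow π a p).symm⟩
    have hkerπ : π.ker ≤ P := by rw [QuotientGroup.ker_mk']; exact hDP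
    have hidx : (P.map π).index = p ^ 2 := by
      rw [Subgroup.index_map_eq _ hπs hkerπ, ← hPeq, h.index]
    have hcard : Nat.card (CfsgLib.Invol.powKer habR p) = p ^ 2 := by
      have h1 := CfsgLib.Invol.EssentialSmall.card_powKer_mul_powRange habR p
      rw [hrange, ← Subgroup.card_mul_index (P.map π), hidx, mul_comm] at h1
      exact (Nat.eq_of_mul_eq_mul_right Nat.card_pos h1).symm
    obtain ⟨g, hg⟩ := h.pow
    have hα : bar τ ^ p = 1 := by
      refine MulEquiv.ext fun r => ?_
      obtain ⟨y, rfl⟩ := hπs r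
      rw [← map_pow, hbar, hg, MulAut.conj_apply, hab g y, mul_inv_cancel_right]
      rfl
    obtain ⟨v, hv⟩ := h.moves
    refine hv ?_
    rw [hPeq]
    have hfix := CfsgLib.Invol.EssentialSmall.fix_omega_of_five_le habR hp5 hcard
      (fun r hr => by
        have : r ∈ CfsgLib.Invol.powKer habR p := hr
        rw [hker, ← hrange] at this
        exact this) hα (π v ^ p) (by
        rw [← map_pow, ← map_pow, ← pow_mul]
        exact (QuotientGroup.eq_one_iff _).2 ⟨v, rfl⟩)
    have h2 : π (v⁻¹ * τ v) ∈ CfsgLib.Invol.powKer habR p := by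
      show π (v⁻¹ * τ v) ^ p = 1
      rw [map_mul, map_inv, ← hbar, (show Commute (π v)⁻¹ (bar τ (π v)) from habR _ _).mul_pow, inv_pow,
        ← map_pow (bar τ), hfix, inv_mul_cancel]
    rw [hker, ← Subgroup.mem_comap, Subgroup.comap_map_eq, sup_eq_left.2 hkerπ] at h2
    exact h2
  · -- the powers vanish
    have hall : ∀ y : Q, ∃ a, y ^ p = (a ^ p) ^ p := fun y => by
      have hy : y ∈ K := by rw [hK]; trivial
      obtain ⟨a, ha⟩ := (QuotientGroup.eq_one_iff _).1 hy
      exact ⟨a, by rw [← ha, ← pow_mul]⟩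
    have hiter : ∀ n : ℕ, ∀ y : Q, ∃ b, y ^ p = b ^ p ^ (n + 1) := by
      intro n
      induction n with
      | zero => exact fun y => ⟨y, by rw [zero_add, pow_one]⟩
      | succ n ih =>
        intro y
        obtain ⟨a, ha⟩ := hall y
        obtain ⟨b, hb⟩ := ih a
        exact ⟨b, by rw [ha, hb, ← pow_mul, ← pow_succ]⟩
    obtain ⟨e, he⟩ := IsPGroup.iff_card.1 h.pgroup
    obtain ⟨b, hb⟩ := hiter e x
    refine hx ?_
    rw [hb, pow_succ, pow_mul, ← he, pow_card_eq_one', one_pow]

/-- The `p`-th powers lie in the commutator subgroup. -/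
theorem Setup.pow_mem_commutator (h : Setup p A τ) (hp5 : 5 ≤ p) (x : Q) : x ^ p ∈ commutator Q := by
  obtain ⟨A', τ', h'⟩ := h.quotient (QuotientGroup.mk' (commutator Q)) (QuotientGroup.mk'_surjective _)
    (by
      rw [QuotientGroup.ker_mk', commutator_def, Subgroup.commutator_le]
      exact fun a _ b _ => CfsgLib.RankThree.commutator_mem_frattini h.pgroup a b)
    (fun σ y hy => by
      rw [QuotientGroup.mk'_apply, QuotientGroup.eq_one_iff] at hy ⊢
      have h1 := mem_map_of_mem σ.toMonoidHom hy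
      rwa [Subgroup.characteristic_iff_map_eq.1 inferInstance σ] at h1)
  have h1 := h'.pow_eq_one_of_comm hp5 (fun a b => by
    obtain ⟨a, rfl⟩ := QuotientGroup.mk'_surjective _ a
    obtain ⟨b, rfl⟩ := QuotientGroup.mk'_surjective _ b
    rw [← map_mul, ← map_mul, QuotientGroup.mk'_apply, QuotientGroup.mk'_apply, QuotientGroup.eq]
    have : (a * b)⁻¹ * (b * a) = ⁅b⁻¹, a⁻¹⁆ := by rw [commutatorElement_def]; group
    rw [this, commutator_def]
    exact Subgroup.commutator_mem_commutator (mem_top _) (mem_top _)) (QuotientGroup.mk' _ x)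
  rwa [← map_pow, QuotientGroup.mk'_apply, QuotientGroup.eq_one_iff] at h1

end CfsgLib.RankTwoEss
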