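import Cfsg.Agent.Lib.Coprime.SymplecticType

/-!
A nonabelian group of order `p ^ 3` and exponent `p` is extraspecial.
-/

set_option autoImplicit false
set_option linter.style.haveILetI false

universe u

namespace CfsgLib.RankTwoEss

open Subgroup

/-- A nonabelian group of order `p ^ 3` and exponent `p` is extraspecial. -/
theorem isExtraspecial_of_cube {X : Type u} [Group X] [Finite X] {p : ℕ} [hp : Fact p.Prime]
    (hcard : Nat.card X = p ^ 3) (hne : ∃ x y : X, x * y ≠ y * x) (hexp : ∀ x : X, x ^ p = 1) :
    Cfsg.IsExtraspecial p X := by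
  have hX : IsPGroup p X := IsPGroup.of_card hcard
  obtain ⟨a, b, hab⟩ := hne
  haveI : Nontrivial X := ⟨a * b, b * a, hab⟩
  have hnab : ¬ ∀ x y : X, x * y = y * x := fun h => hab (h a b)
  have hd : Nat.card (center X) ∣ p ^ 3 := hcard ▸ card_subgroup_dvd_card _
  obtain ⟨k, hk, hk'⟩ := (Nat.dvd_prime_pow hp.out).1 hd
  have hk0 : k ≠ 0 := by
    rintro rfl
    haveI := hX.center_nontrivial
    exact (Finite.one_lt_card (α := center X)).ne' (by rw [hk', pow_zero])
  have hidx : (center X).index = p ^ (3 - k) := by
    have := Subgroup.card_mul_index (center X)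
    rw [hk', hcard, show (3 : ℕ) = k + (3 - k) by omega, pow_add] at this
    simpa using Nat.eq_of_mul_eq_mul_left (pow_pos hp.out.pos k) this
  have hk1 : k = 1 := by
    by_contra hne1
    refine hnab fun x y => ?_
    haveI : IsCyclic (X ⧸ center X) := by
      rcases (show k = 2 ∨ k = 3 by omega) with rfl | rfl
      · exact isCyclic_of_prime_card (p := p) (by rw [← Subgroup.index_eq_card, hidx]; norm_num)
      · haveI : Subsingleton (X ⧸ center X) := (Nat.card_eq_one_iff_unique.1 (by
          rw [← Subgroup.index_eq_card, hidx]; norm_num)).1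
        infer_instance
    exact commutative_of_cyclic_center_quotient (QuotientGroup.mk' (center X))
      (by rw [QuotientGroup.ker_mk']) x y
  subst hk1
  have hQ : ∀ u v : X ⧸ center X, u * v = v * u :=
    (IsPGroup.isMulCommutative_of_card_eq_prime_sq (p := p)
      (show Nat.card (X ⧸ center X) = p ^ 2 by rw [← Subgroup.index_eq_card, hidx])).is_comm.comm
  refine CfsgLib.Coprime.isExtraspecial_of_central hX (center X) (by rw [hk', pow_one]) rfl (fun x y => ?_)
    (fun x => by rw [hexp x]; exact one_mem _) (fun h => ?_)
  · rw [← QuotientGroup.eq_one_iff, ← QuotientGroup.mk'_apply, map_commutatorElement,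
      commutatorElement_eq_one_iff_mul_comm]
    exact hQ _ _
  · rw [h, Subgroup.card_top, hcard] at hk'
    exact absurd (Nat.pow_right_injective hp.out.two_le hk') (by norm_num)

end CfsgLib.RankTwoEss
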